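import Groth.Agent.SGA3x.K19.SplitTor
import Groth.Agent.Sga3.H827.ImgTorus

/-!
# Zariski-locally split tori: products, images, quotients

`LocSplit T` : the `S`-group `T` is Zariski-locally on `S` a split torus.
-/

set_option autoImplicit false
universe u
open CategoryTheory MonoidalCategory CartesianMonoidalCategory MonObj GrpObj AlgebraicGeometry Limits

namespace K19.LocSplit

open Groth.Agent Groth.Agent.Sga3 Groth.Agent.Sga3B Groth.Agent.Sga3B.DSPts Groth.Agent.Sga3B.DSRigid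
open Groth.Agent.Sga3.H828.DiagChart Groth.Agent.Sga3.H828.DiagChart.Chart Groth.Agent.Sga3.H827
open K19.Ad

variable {S : Scheme.{u}}

/-- `T` is Zariski-locally on `S` a split torus. -/
def IsLocSplit (T : Over S) [GrpObj T] : Prop :=
  ∀ s : S, ∃ U : S.Opens, s ∈ U ∧ ∃ r : ℕ, Red.IsSplitTorusWith (Fin r → ℤ) (Red.bc U.ι T)

variable {T T' G Q : Over S} [GrpObj T] [GrpObj T'] [GrpObj G] [GrpObj Q]

lemma isLocSplit_of_isSplit {r : ℕ} (h : Red.IsSplitTorusWith (Fin r → ℤ) T) : IsLocSplit T :=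
  fun _ => ⟨⊤, trivial, r, TorusAlgClosed.isSplitTorusWith_bc _ h⟩

theorem exists_chart (h : IsLocSplit T) (s : S) :
    ∃ (R : Type u) (_ : CommRing R) (v : Spec (CommRingCat.of R) ⟶ S) (r : ℕ)
      (_ : Chart T (Over.mk v) (Fin r → ℤ)), IsOpenImmersion v ∧ s ∈ Set.range v := by
  obtain ⟨U, hs, r, ⟨e⟩⟩ := h s
  obtain ⟨R, v, hv, hsv, hvU⟩ := BorLoc613.exists_spec_nhd U hs
  obtain ⟨k, hk⟩ := exists_lift_of_range U.ι v (by rw [Scheme.Opens.range_ι]; exact hvU)
  exact ⟨R, inferInstance, v, r, (Chart.ofIso U.ι e).restrict (Over.homMk k hk), hv, hsv⟩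

theorem isLocSplit_of_charts (h : ∀ s : S, ∃ (V : Scheme.{u}) (v : V ⟶ S) (r : ℕ), IsOpenImmersion v ∧
    s ∈ Set.range v ∧ Red.IsSplitTorusWith (Fin r → ℤ) (Red.bc v T)) : IsLocSplit T := by
  intro s
  obtain ⟨V, v, r, hv, hs, hr⟩ := h s
  refine ⟨v.opensRange, hs, r, ?_⟩
  obtain ⟨k, hk⟩ := exists_lift_of_range v v.opensRange.ι (by
    rw [Scheme.Opens.range_ι]
    exact subset_rfl)
  have h1 := TorusAlgClosed.isSplitTorusWith_bc k hr
  exact TorusBc.isSplitTorusWith_of_iso ((BcIso.bcCompIso k v T).symm ≪≫ BcIso.bcCongrIso hk T) h1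

lemma isTorus (h : IsLocSplit T) : Red.IsTorus T := by
  refine ⟨S, 𝟙 S, inferInstance, inferInstance, fun V hV => ⟨V, hV.isCompact, ?_⟩, fun s => ?_⟩
  · ext x
    simp
  · obtain ⟨U, hs, r, hr⟩ := h s
    refine ⟨U, hs, r, ?_⟩
    exact TorusBc.isSplitTorusWith_of_iso (BcIso.bcCongrIso (Category.comp_id U.ι).symm T) hr

lemma isLocSplit_bc {S' : Scheme.{u}} (f : S' ⟶ S) (h : IsLocSplit T) : IsLocSplit (Red.bc f T) := by
  intro s'
  obtain ⟨U, hs, r, hr⟩ := h (f s')
  refine ⟨f ⁻¹ᵁ U, hs, r, ?_⟩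
  have h1 := TorusAlgClosed.isSplitTorusWith_bc (f ∣_ U) hr
  refine TorusBc.isSplitTorusWith_of_iso ((BcIso.bcCompIso (f ∣_ U) U.ι T).symm ≪≫
    BcIso.bcCongrIso (morphismRestrict_ι f U) T ≪≫ BcIso.bcCompIso (f ⁻¹ᵁ U).ι f T) h1

/-- A free subgroup of finite rank. -/
lemma exists_fin_equiv {r : ℕ} (N : AddSubgroup (Fin r → ℤ)) : ∃ k : ℕ, Nonempty ((Fin k → ℤ) ≃+ N) ∧ k ≤ r := by
  have f1 : Module.Free ℤ (AddSubgroup.toIntSubmodule N) := inferInstance
  have f2 : Module.Finite ℤ (AddSubgroup.toIntSubmodule N) := inferInstance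
  let e0 : AddSubgroup.toIntSubmodule N ≃+ N := AddEquiv.refl _
  have f3 : Module.Free ℤ N := Module.Free.of_equiv e0.toIntLinearEquiv
  have f4 : Module.Finite ℤ N := Module.Finite.equiv e0.toIntLinearEquiv
  refine ⟨Module.finrank ℤ N, ⟨((Module.finBasis ℤ N).equivFun.symm).toAddEquiv⟩, ?_⟩
  have h1 : Function.Injective N.subtype.toIntLinearMap := N.subtype_injective
  have := LinearMap.finrank_le_finrank_of_injective h1
  simpa using this

lemma isSplit_of_addEquiv {M N : Type} [AddCommGroup M] [AddCommGroup N] (e : M ≃+ N)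
    (h : Red.IsSplitTorusWith N T) : Red.IsSplitTorusWith M T := by
  obtain ⟨E, -, -⟩ := BorSpan613.exists_iso_DS S e
  obtain ⟨i⟩ := h
  exact ⟨i ≪≫ E⟩

/-- **The image of a locally split torus is locally split.** -/
theorem isLocSplit_of_factor (h : T ⟶ G) [IsMonHom h] [IsSeparated G.hom] [LocallyOfFiniteType G.hom]
    (hT : IsLocSplit T) (p : T ⟶ Q) [IsMonHom p] (i : Q ⟶ G) [IsMonHom i] [Mono i] (w : p ≫ i = h)
    [Surjective p.left] [Flat p.left] : IsLocSplit Q := by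
  have hA := TorusAlgClosed.isAffineHom_of_isTorus (isTorus hT)
  have hi : Mono i.left := inferInstanceAs (Mono ((Over.forget S).map i))
  have hsep : IsSeparated Q.hom := by
    rw [← Over.w i]
    infer_instance
  have hqc : QuasiCompact p.left := by
    have h1 : QuasiCompact (p.left ≫ Q.hom) := by
      rw [Over.w]
      infer_instance
    exact QuasiCompact.of_comp p.left Q.hom
  refine isLocSplit_of_charts fun s => ?_
  obtain ⟨R, _, v, r, c, hv, ⟨y, hy⟩⟩ := exists_chart hT s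
  obtain ⟨B, _, ρ, N, hρ, ⟨z, hz⟩, hN⟩ := exists_adapted h v c y
  obtain ⟨e⟩ := ChartQ.exists_iso_image hN p i w
  obtain ⟨k, ⟨ε⟩, -⟩ := exists_fin_equiv N
  refine ⟨_, ρ ≫ v, k, inferInstance, ⟨z, by rw [Scheme.Hom.comp_apply, hz, hy]⟩, ?_⟩
  exact isSplit_of_addEquiv ε ⟨e⟩

/-- **The image of a locally split torus.** -/
theorem exists_image (h : T ⟶ G) [IsMonHom h] [IsSeparated G.hom] [LocallyOfFiniteType G.hom]
    (hT : IsLocSplit T) :
    ∃ (Q : Over S) (_ : GrpObj Q) (p : T ⟶ Q) (i : Q ⟶ G), IsMonHom p ∧ IsMonHom i ∧ p ≫ i = h ∧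
      Surjective p.left ∧ Flat p.left ∧ LocallyOfFinitePresentation p.left ∧ Mono i ∧ IsLocSplit Q := by
  obtain ⟨Q, _, p, i, hp, hi, w, h1, h2, h3, h4, -⟩ := ImgTorus.exists_image_torus h (isTorus hT)
  exact ⟨Q, inferInstance, p, i, hp, hi, w, h1, h2, h3, h4, isLocSplit_of_factor h hT p i w⟩

section prod

/-- characters of a product -/
noncomputable def prodChar (M M' : Type) [AddCommGroup M] [AddCommGroup M'] (A : Type u) [CommRing A] :
    (Multiplicative M →* A) × (Multiplicative M' →* A) ≃* (Multiplicative (M × M') →* A) where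
  toFun χ :=
    { toFun := fun m => χ.1 (Multiplicative.ofAdd m.toAdd.1) * χ.2 (Multiplicative.ofAdd m.toAdd.2)
      map_one' := by
        change χ.1 1 * χ.2 1 = 1
        rw [map_one, map_one, _root_.mul_one]
      map_mul' := fun a b => by
        change χ.1 (Multiplicative.ofAdd a.toAdd.1 * Multiplicative.ofAdd b.toAdd.1) *
          χ.2 (Multiplicative.ofAdd a.toAdd.2 * Multiplicative.ofAdd b.toAdd.2) = _
        rw [map_mul, map_mul]
        exact mul_mul_mul_comm _ _ _ _ }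
  invFun χ := (χ.comp (AddMonoidHom.toMultiplicative (AddMonoidHom.inl M M')),
    χ.comp (AddMonoidHom.toMultiplicative (AddMonoidHom.inr M M')))
  left_inv χ := by
    refine Prod.ext (MonoidHom.ext fun m => ?_) (MonoidHom.ext fun m => ?_)
    · change χ.1 m * χ.2 1 = χ.1 m
      rw [map_one, _root_.mul_one]
    · change χ.1 1 * χ.2 m = χ.2 m
      rw [map_one, _root_.one_mul]
  right_inv χ := by
    refine MonoidHom.ext fun m => ?_
    change χ (Multiplicative.ofAdd (m.toAdd.1, 0)) * χ (Multiplicative.ofAdd (0, m.toAdd.2)) = χ m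
    rw [← map_mul, ← ofAdd_add]
    congr 1
    change Multiplicative.ofAdd ((m.toAdd.1 + 0, 0 + m.toAdd.2) : M × M') = m
    rw [add_zero, zero_add]
    rfl
  map_mul' χ χ' := by
    refine MonoidHom.ext fun m => ?_
    exact mul_mul_mul_comm _ _ _ _

/-- points of a product of groups -/
noncomputable def prodPts (T T' X : Over S) [GrpObj T] [GrpObj T'] : (X ⟶ T ⊗ T') ≃* (X ⟶ T) × (X ⟶ T') where
  toFun x := (x ≫ fst T T', x ≫ snd T T')
  invFun p := lift p.1 p.2
  left_inv x := by simp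
  right_inv p := by simp
  map_mul' x y := by
    refine Prod.ext ?_ ?_
    · exact MonObj.mul_comp _ _ _
    · exact MonObj.mul_comp _ _ _

variable {M M' : Type} [AddCommGroup M] [AddCommGroup M'] {B : Over S}

/-- chart of a product -/
noncomputable def prodChart (c : Chart T B M) (c' : Chart T' B M') : Chart (T ⊗ T') B (M × M') where
  chr {X} t := ((prodPts T T' X).trans ((c.chr t).prodCongr (c'.chr t))).trans (prodChar M M' Γ(X.left, ⊤))
  chr_comp {X Y} g t x := by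
    refine MonoidHom.ext fun m => ?_
    change c.chr (g ≫ t) ((g ≫ x) ≫ fst T T') (Multiplicative.ofAdd m.toAdd.1) *
        c'.chr (g ≫ t) ((g ≫ x) ≫ snd T T') (Multiplicative.ofAdd m.toAdd.2) =
      g.left.appTop.hom (c.chr t (x ≫ fst T T') (Multiplicative.ofAdd m.toAdd.1) *
        c'.chr t (x ≫ snd T T') (Multiplicative.ofAdd m.toAdd.2))
    rw [Category.assoc, Category.assoc, c.chr_comp, c'.chr_comp, map_mul]
    rfl

theorem isLocSplit_prod (h : IsLocSplit T) (h' : IsLocSplit T') : IsLocSplit (T ⊗ T') := by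
  refine isLocSplit_of_charts fun s => ?_
  obtain ⟨U, hU, r, ⟨e⟩⟩ := h s
  obtain ⟨U', hU', r', ⟨e'⟩⟩ := h' s
  obtain ⟨R, v, hv, hsv, hvU⟩ := BorLoc613.exists_spec_nhd (U ⊓ U') (s := s) ⟨hU, hU'⟩
  obtain ⟨k, hk⟩ := exists_lift_of_range U.ι v (by
    rw [Scheme.Opens.range_ι]; exact hvU.trans Set.inter_subset_left)
  obtain ⟨k', hk'⟩ := exists_lift_of_range U'.ι v (by
    rw [Scheme.Opens.range_ι]; exact hvU.trans Set.inter_subset_right)
  let c := (Chart.ofIso U.ι e).restrict (Over.homMk k hk : Over.mk v ⟶ Over.mk U.ι)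
  let c' := (Chart.ofIso U'.ι e').restrict (Over.homMk k' hk' : Over.mk v ⟶ Over.mk U'.ι)
  have h1 := Chart.toIso v (prodChart c c')
  refine ⟨_, v, r + r', hv, hsv, ?_⟩
  let ε : (Fin (r + r') → ℤ) ≃+ (Fin r → ℤ) × (Fin r' → ℤ) :=
    ((LinearEquiv.funCongrLeft ℤ ℤ finSumFinEquiv).trans (LinearEquiv.sumArrowLequivProdArrow (Fin r) (Fin r') ℤ ℤ)).toAddEquiv
  exact isSplit_of_addEquiv ε h1

end prod

/-- **Two locally split subgroups of a commutative separated group are contained in a third.** -/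
theorem exists_sup [IsSeparated G.hom] [LocallyOfFiniteType G.hom] (hcomm : ∀ (X : Over S) (x y : X ⟶ G), x * y = y * x)
    (h : IsLocSplit T) (h' : IsLocSplit T') (j : T ⟶ G) [IsMonHom j] (j' : T' ⟶ G) [IsMonHom j'] :
    ∃ (Q : Over S) (_ : GrpObj Q) (a : T ⟶ Q) (b : T' ⟶ Q) (i : Q ⟶ G), IsMonHom a ∧ IsMonHom b ∧ IsMonHom i ∧
      Mono i ∧ a ≫ i = j ∧ b ≫ i = j' ∧ IsLocSplit Q := by
  let m : T ⊗ T' ⟶ G := (fst T T' ≫ j) * (snd T T' ≫ j')
  have hm : IsMonHom m := Pts.isMonHom_of_points _ fun X x y => by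
    simp only [m, MonObj.comp_mul]
    have h1 : (x * y) ≫ fst T T' ≫ j = (x ≫ fst T T' ≫ j) * (y ≫ fst T T' ≫ j) := MonObj.mul_comp _ _ _
    have h2 : (x * y) ≫ snd T T' ≫ j' = (x ≫ snd T T' ≫ j') * (y ≫ snd T T' ≫ j') := MonObj.mul_comp _ _ _
    rw [h1, h2, _root_.mul_assoc, _root_.mul_assoc, ← _root_.mul_assoc (y ≫ fst T T' ≫ j),
      hcomm X (y ≫ fst T T' ≫ j), _root_.mul_assoc]
  obtain ⟨Q, _, p, i, hp, hi, w, -, -, -, him, hQ⟩ := exists_image m (isLocSplit_prod h h')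
  have hone : IsMonHom (1 : T ⟶ T') := Pts.isMonHom_of_points _ fun X x y => by simp
  have hone' : IsMonHom (1 : T' ⟶ T) := Pts.isMonHom_of_points _ fun X x y => by simp
  have ha : IsMonHom (lift (𝟙 T) (1 : T ⟶ T')) := inferInstance
  have hb : IsMonHom (lift (1 : T' ⟶ T) (𝟙 T')) := inferInstance
  refine ⟨Q, inferInstance, lift (𝟙 T) 1 ≫ p, lift 1 (𝟙 T') ≫ p, i, inferInstance, inferInstance, hi, him, ?_, ?_, hQ⟩
  · rw [Category.assoc, w]
    simp only [m, MonObj.comp_mul, lift_fst_assoc, lift_snd_assoc, Category.id_comp, one_comp, _root_.mul_one]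
  · rw [Category.assoc, w]
    simp only [m, MonObj.comp_mul, lift_fst_assoc, lift_snd_assoc, Category.id_comp, one_comp, _root_.one_mul]

end K19.LocSplit
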