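import Groth.Agent.SGA3x.K19.Ad
import Groth.Agent.Sga3B.TorusEtSplit
import Groth.Agent.Sga3B.MaxTorNear900
import Groth.Agent.S4148

/-!
# Split subtori
-/

set_option autoImplicit false
universe u
open CategoryTheory MonoidalCategory CartesianMonoidalCategory MonObj GrpObj AlgebraicGeometry Limits

namespace K19.SplitTor

open Groth.Agent Groth.Agent.Sga3 Groth.Agent.Sga3B Groth.Agent.Sga3B.DSPts Groth.Agent.Sga3B.DSRigid
open K19.Ad

variable {S : Scheme.{u}}

/-- A monomorphism between split tori over a local ring: the rank does not increase. -/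
theorem rank_le_of_mono_local {R : Type u} [CommRing R] [IsLocalRing R] {r k : ℕ}
    {T G : Over (Spec (.of R))} [GrpObj T] [GrpObj G] (hT : Red.IsSplitTorusWith (Fin r → ℤ) T)
    (hG : Red.IsSplitTorusWith (Fin k → ℤ) G) (f : T ⟶ G) [IsMonHom f] [Mono f] : r ≤ k := by
  obtain ⟨a⟩ := hT
  obtain ⟨b⟩ := hG
  have ha : IsIso a.inv.hom.hom := inferInstanceAs (IsIso ((Grp.forget _).map a.inv))
  have hb : IsIso b.hom.hom.hom := inferInstanceAs (IsIso ((Grp.forget _).map b.hom))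
  obtain ⟨φ, hφ⟩ := exists_eq_DSmap (a.inv.hom.hom ≫ f ≫ b.hom.hom.hom)
  have h1 : Mono (Red.DSmap (Spec (.of R)) φ) := by
    rw [← hφ]
    exact mono_comp _ _
  have h2 : Function.Surjective φ.toIntLinearMap := DSKit.surjective_of_mono_spec φ h1
  have := LinearMap.finrank_le_finrank_of_surjective h2
  simpa using this

/-- Rank bound for split subtori of a torus. -/
theorem exists_bound {G : Over S} [GrpObj G] (hG : Red.IsTorus G) (s : S) :
    ∃ k : ℕ, ∀ (T : Over S) [GrpObj T] (j : T ⟶ G) [IsMonHom j] [Mono j] (r : ℕ),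
      Red.IsSplitTorusWith (Fin r → ℤ) T → r ≤ k := by
  obtain ⟨k, hk⟩ := TorusAlgClosed.exists_isSplitTorusWith (TorusBc.isTorus_bc (Red.geomPt s) hG)
  refine ⟨k, fun T _ j _ _ r hT => ?_⟩
  have h1 : IsMonHom ((Over.pullback (Red.geomPt s)).map j) := inferInstance
  exact rank_le_of_mono_local (TorusAlgClosed.isSplitTorusWith_bc (Red.geomPt s) hT) hk
    ((Over.pullback (Red.geomPt s)).map j)

/-- A monomorphism of split tori with non-increasing rank is an isomorphism. -/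
theorem isIso_of_mono {T T' : Over S} [GrpObj T] [GrpObj T'] (f : T ⟶ T') [IsMonHom f] [Mono f] {r r' : ℕ}
    (hr : r ≤ r') (hT : Red.IsSplitTorusWith (Fin r' → ℤ) T) (hT' : Red.IsSplitTorusWith (Fin r → ℤ) T') :
    IsIso f := by
  have h1 := TorusAlgClosed.smooth_of_isTorus (BorSpan613.isTorus_of_isSplitTorusWith hT)
  have h2 := TorusAlgClosed.smooth_of_isTorus (BorSpan613.isTorus_of_isSplitTorusWith hT')
  refine TorusEtSplit.isIso_of_geomFibres f fun s => ?_
  have h3 : IsMonHom ((Over.pullback (Red.geomPt s)).map f) := inferInstance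
  exact DSKit.isIso_of_mono_local hr (TorusAlgClosed.isSplitTorusWith_bc (Red.geomPt s) hT)
    (TorusAlgClosed.isSplitTorusWith_bc (Red.geomPt s) hT') _

lemma isSplit_DS (S : Scheme.{u}) (M : Type) [AddCommGroup M] : Red.IsSplitTorusWith M (Red.DS S M) := ⟨Iso.refl _⟩

/-- A morphism whose composite with a monomorphic homomorphism is a homomorphism is one. -/
lemma isMonHom_of_comp {A B C : Over S} [GrpObj A] [GrpObj B] [GrpObj C] (g : A ⟶ B) (j : B ⟶ C) [IsMonHom j]
    [Mono j] (h : IsMonHom (g ≫ j)) : IsMonHom g := by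
  apply Pts.isMonHom_of_points
  intro X x y
  rw [← cancel_mono j, Category.assoc, MonObj.mul_comp, MonObj.mul_comp]
  simp only [Category.assoc]

lemma DSmap_zero (S : Scheme.{u}) {M N : Type} [AddCommGroup M] [AddCommGroup N] :
    Red.DSmap S (0 : M →+ N) = 1 := by
  apply (dsEquiv (Red.DS S N) M).symm.injective
  rw [map_one]
  change dsChar _ = 1
  rw [← Category.id_comp (Red.DSmap S 0), dsChar_DSmap]
  refine MonoidHom.ext fun m => ?_
  exact map_one (dsChar (𝟙 (Red.DS S N)))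

/-- The split subtori have a member of maximal rank. -/
theorem exists_max [Nonempty S] {G : Over S} [GrpObj G] (hG : Red.IsTorus G) :
    ∃ (r : ℕ) (j : Red.DS S (Fin r → ℤ) ⟶ G), IsMonHom j ∧ Mono j ∧
      ∀ (T' : Over S) [GrpObj T'] (j' : T' ⟶ G) [IsMonHom j'] [Mono j'] (r' : ℕ),
        Red.IsSplitTorusWith (Fin r' → ℤ) T' → r' ≤ r := by
  obtain ⟨s⟩ := ‹Nonempty S›
  obtain ⟨k, hk⟩ := exists_bound hG s
  let P : ℕ → Prop := fun r => ∃ j : Red.DS S (Fin r → ℤ) ⟶ G, IsMonHom j ∧ Mono j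
  have hP0 : P 0 := by
    have h1 : IsMonHom (1 : Red.DS S (Fin 0 → ℤ) ⟶ G) := Pts.isMonHom_of_points _ fun X x y => by simp
    refine ⟨1, h1, H784.FlatDesc.mono_of_ker _ fun X x _ => ?_⟩
    apply (dsEquiv X (Fin 0 → ℤ)).symm.injective
    rw [map_one]
    refine MonoidHom.ext fun m => ?_
    have hm : m = 1 := Subsingleton.elim _ _
    rw [hm, map_one, map_one]
  have hPk : ∀ r, P r → r ≤ k := by
    rintro r ⟨j, hj, hj'⟩
    exact hk _ j r (isSplit_DS S _)
  classical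
  let r := Nat.findGreatest P k
  have hr : P r := Nat.findGreatest_spec (P := P) (Nat.zero_le k) hP0
  obtain ⟨j, hj, hj'⟩ := hr
  refine ⟨r, j, hj, hj', fun T' _ j' _ _ r' hT' => ?_⟩
  obtain ⟨e⟩ := hT'
  have he : IsIso e.inv.hom.hom := inferInstanceAs (IsIso ((Grp.forget _).map e.inv))
  have h1 : P r' := ⟨e.inv.hom.hom ≫ j', inferInstance, mono_comp _ _⟩
  exact Nat.le_findGreatest (hPk r' h1) h1

/-- **Over a connected base a torus has a greatest split subtorus.** -/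
theorem exists_greatest [ConnectedSpace S] {G : Over S} [GrpObj G] (hG : Red.IsTorus G) :
    ∃ (r : ℕ) (j : Red.DS S (Fin r → ℤ) ⟶ G), IsMonHom j ∧ Mono j ∧
      ∀ (T' : Over S) [GrpObj T'] (j' : T' ⟶ G) [IsMonHom j'] (r' : ℕ),
        Red.IsSplitTorusWith (Fin r' → ℤ) T' → ∃ g : T' ⟶ Red.DS S (Fin r → ℤ), g ≫ j = j' := by
  obtain ⟨r, j, hj, hjm, hmax⟩ := exists_max hG
  refine ⟨r, j, hj, hjm, fun T' _ j' _ r' hT' => ?_⟩
  have hA := TorusAlgClosed.isAffineHom_of_isTorus hG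
  have hsm := TorusAlgClosed.smooth_of_isTorus hG
  obtain ⟨e⟩ := hT'
  have hcomm : ∀ (X : Over S) (x y : X ⟶ G), x * y = y * x := fun X x y => MaxTorNear900.mul_comm_of_isTorus hG X x y
  let M := (Fin r → ℤ) × (Fin r' → ℤ)
  let a : Red.DS S M ⟶ Red.DS S (Fin r → ℤ) := Red.DSmap S (AddMonoidHom.inl _ _)
  let b : Red.DS S M ⟶ Red.DS S (Fin r' → ℤ) := Red.DSmap S (AddMonoidHom.inr _ _)
  have ha : IsMonHom a := H827.KerLoc.isMonHom_DSmap _
  have hb : IsMonHom b := H827.KerLoc.isMonHom_DSmap _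
  let b' : Red.DS S M ⟶ T' := b ≫ e.inv.hom.hom
  have hb' : IsMonHom b' := inferInstance
  let h : Red.DS S M ⟶ G := (a ≫ j) * (b' ≫ j')
  have hh : IsMonHom h := Pts.isMonHom_of_points _ fun X x y => by
    simp only [h, MonObj.comp_mul]
    have h1 : (x * y) ≫ a ≫ j = (x ≫ a ≫ j) * (y ≫ a ≫ j) := MonObj.mul_comp _ _ _
    have h2 : (x * y) ≫ b' ≫ j' = (x ≫ b' ≫ j') * (y ≫ b' ≫ j') := MonObj.mul_comp _ _ _
    rw [h1, h2, _root_.mul_assoc, _root_.mul_assoc, ← _root_.mul_assoc (y ≫ a ≫ j), hcomm X (y ≫ a ≫ j),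
      _root_.mul_assoc]
  have hfg : AddGroup.FG M := inferInstance
  obtain ⟨N, hN⟩ := exists_ad_top h
  obtain ⟨i, hi, him, hih⟩ := exists_factor hN
  -- the composite `D(ℤ^r) ⟶ D(M) ⟶ D(N)`
  let π : M →+ (Fin r → ℤ) := AddMonoidHom.fst _ _
  let ρ : N →+ (Fin r → ℤ) := π.comp N.subtype
  have h1 : Red.DSmap S ρ = Red.DSmap S π ≫ Red.DSmap S N.subtype := Parab.TorRank156.DSmap_comp S _ _
  have h2 : Red.DSmap S ρ ≫ i = j := by
    rw [h1, Category.assoc, hih, MonObj.comp_mul]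
    have h3 : Red.DSmap S π ≫ a = 𝟙 _ := by
      rw [← Parab.TorRank156.DSmap_comp S _ _, ← Parab.TorRank156.DSmap_id]
      rfl
    have h4 : Red.DSmap S π ≫ b = 1 := by
      rw [← Parab.TorRank156.DSmap_comp S _ _]
      have : π.comp (AddMonoidHom.inr (Fin r → ℤ) (Fin r' → ℤ)) = 0 := by ext; rfl
      rw [this]
      exact DSmap_zero S
    rw [← Category.assoc, h3, Category.id_comp, ← Category.assoc, ← Category.assoc, h4, one_comp, one_comp, _root_.mul_one]
  have h3 : Mono (Red.DSmap S ρ) := by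
    have : Mono (Red.DSmap S ρ ≫ i) := by rw [h2]; exact hjm
    exact mono_of_mono _ i
  have hne : Nonempty S := inferInstance
  have h4 : Function.Surjective ρ := DSKit.surjective_of_mono ρ h3
  -- `N` is free of some rank `k`
  have f1 : Module.Free ℤ (AddSubgroup.toIntSubmodule N) := inferInstance
  have f2 : Module.Finite ℤ (AddSubgroup.toIntSubmodule N) := inferInstance
  let e0 : AddSubgroup.toIntSubmodule N ≃+ N := AddEquiv.refl _
  have f3 : Module.Free ℤ N := Module.Free.of_equiv e0.toIntLinearEquiv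
  have f4 : Module.Finite ℤ N := Module.Finite.equiv e0.toIntLinearEquiv
  let k := Module.finrank ℤ N
  let ε : (Fin k → ℤ) ≃+ N := ((Module.finBasis ℤ N).equivFun.symm).toAddEquiv
  have hk : Red.IsSplitTorusWith (Fin k → ℤ) (Red.DS S N) := by
    obtain ⟨E, -, -⟩ := BorSpan613.exists_iso_DS S ε
    exact ⟨E⟩
  have h5 : k ≤ r := hmax _ i k hk
  have h6 : Function.Bijective (ρ.comp ε.toAddMonoidHom) :=
    (DSKit.bijective_of_surjective h5 (ρ.comp ε.toAddMonoidHom) (h4.comp ε.surjective)).1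
  have h7 : Function.Bijective ρ := by
    have : (ρ : N → (Fin r → ℤ)) = (ρ.comp ε.toAddMonoidHom) ∘ ε.symm := by
      ext x
      simp
    rw [this]
    exact h6.comp ε.symm.bijective
  have h8 : IsIso (Red.DSmap S ρ) := DSKit.isIso_DSmap S ρ h7
  -- the second factor
  let π' : M →+ (Fin r' → ℤ) := AddMonoidHom.snd _ _
  refine ⟨e.hom.hom.hom ≫ Red.DSmap S π' ≫ Red.DSmap S N.subtype ≫ inv (Red.DSmap S ρ), ?_⟩
  have h9 : inv (Red.DSmap S ρ) ≫ j = i := by rw [← h2, IsIso.inv_hom_id_assoc]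
  have h10 : Red.DSmap S π' ≫ a = 1 := by
    rw [← Parab.TorRank156.DSmap_comp S _ _]
    have : π'.comp (AddMonoidHom.inl (Fin r → ℤ) (Fin r' → ℤ)) = 0 := by ext; rfl
    rw [this]
    exact DSmap_zero S
  have h11 : Red.DSmap S π' ≫ b = 𝟙 _ := by
    rw [← Parab.TorRank156.DSmap_comp S _ _, ← Parab.TorRank156.DSmap_id]
    rfl
  have h12 : Red.DSmap S π' ≫ h = e.inv.hom.hom ≫ j' := by
    change Red.DSmap S π' ≫ ((a ≫ j) * ((b ≫ e.inv.hom.hom) ≫ j')) = _
    rw [MonObj.comp_mul, ← Category.assoc, h10, one_comp, _root_.one_mul, Category.assoc, ← Category.assoc,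
      h11, Category.id_comp]
  have h13 : e.hom.hom.hom ≫ e.inv.hom.hom = 𝟙 _ := by
    rw [← Grp.comp_hom_hom, e.hom_inv_id]; rfl
  simp only [Category.assoc]
  rw [h9, hih, h12, ← Category.assoc, h13, Category.id_comp]

end K19.SplitTor
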