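import Groth.Agent.SGA3x.K19.LocSplit
import Groth.Agent.Sga3C.QuotProps
import Groth.Agent.S4091
import Groth.Agent.Sga3.H829.Central
import Groth.Prelude.Def_RedSub

/-!
# Closed immersions of groups of multiplicative type into tori, and quotients
-/

set_option autoImplicit false
universe u
open CategoryTheory MonoidalCategory CartesianMonoidalCategory MonObj GrpObj AlgebraicGeometry Limits

namespace K19.TorQuot

open Groth.Agent Groth.Agent.Sga3 Groth.Agent.Sga3B Groth.Agent.Sga3B.DSPts Groth.Agent.Sga3B.TorusBc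

variable {S : Scheme.{u}}

/-- A property stable under base change passes to further base changes of a morphism over `S`. -/
lemma prop_bc_comp (P : MorphismProperty Scheme.{u}) [P.IsStableUnderBaseChange] {V W : Scheme.{u}} (v : V ⟶ S)
    (k : W ⟶ V) {w : W ⟶ S} (hw : k ≫ v = w) {X Y : Over S} (φ : X ⟶ Y) (h : P ((Over.pullback v).map φ).left) :
    P ((Over.pullback w).map φ).left := by
  subst hw
  have h1 : P ((Over.pullback k).map ((Over.pullback v).map φ)).left :=
    MorphismProperty.of_isPullback (H798.FpqcIso.isPullback_map_left k ((Over.pullback v).map φ)) h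
  have h2 : ((Over.pullback (k ≫ v)).map φ) ≫ (Over.pullbackComp k v).hom.app Y =
      (Over.pullbackComp k v).hom.app X ≫ (Over.pullback k).map ((Over.pullback v).map φ) :=
    (Over.pullbackComp k v).hom.naturality φ
  have h3 := congrArg (fun z => Over.Hom.left z) h2
  exact (P.arrow_mk_iso_iff (Arrow.isoMk ((Over.forget _).mapIso ((Over.pullbackComp k v).app X))
    ((Over.forget _).mapIso ((Over.pullbackComp k v).app Y)) h3.symm)).2 h1

/-- Properties of `S`-morphisms which descend are Zariski local on `S`. -/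
theorem prop_of_open_cover (P : MorphismProperty Scheme.{u}) [IsZariskiLocalAtTarget P]
    [P.IsStableUnderBaseChange] [P.DescendsAlong (@Surjective ⊓ @Flat ⊓ @QuasiCompact)] {X Y : Over S} (φ : X ⟶ Y)
    (h : ∀ s : S, ∃ (V : Scheme.{u}) (v : V ⟶ S), IsOpenImmersion v ∧ s ∈ Set.range v ∧
      P ((Over.pullback v).map φ).left) : P φ.left := by
  refine H798.FpqcIso.prop_of_fpqc_cover P (𝟙 S) ?_ φ fun s => ?_
  · intro V hV
    refine ⟨V, hV.isCompact, ?_⟩
    ext x
    simp
  · obtain ⟨V, v, hv, hs, hP⟩ := h s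
    refine ⟨v.opensRange, hs, ?_⟩
    obtain ⟨k, hk⟩ := Ad.exists_lift_of_range v (v.opensRange.ι) (by
      rw [Scheme.Opens.range_ι]
      exact subset_rfl)
    exact prop_bc_comp P v k (hk.trans (Category.comp_id _).symm) φ hP

/-- A group of multiplicative type and a torus are simultaneously split, Zariski locally on an fpqc cover. -/
theorem exists_cover_split {H T : Over S} [GrpObj H] [GrpObj T] (hH : SGA3x.IsMultTypeFT H) (hT : Red.IsTorus T) :
    ∃ (S' : Scheme.{u}) (f : S' ⟶ S), Flat f ∧ Surjective f ∧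
      (∀ V : S.Opens, IsAffineOpen V → ∃ W : S'.Opens, IsCompact (W : Set S') ∧ f.base '' (W : Set S') = (V : Set S)) ∧
      ∀ s' : S', ∃ U : S'.Opens, s' ∈ U ∧ ∃ (M : Type) (_ : AddCommGroup M) (n : ℕ), AddGroup.FG M ∧
        Red.IsSplitTorusWith M (Red.bc (U.ι ≫ f) H) ∧
        Red.IsSplitTorusWith (Fin n → ℤ) (Red.bc (U.ι ≫ f) T) := by
  obtain ⟨S₁, f₁, hf₁, hs₁, hc₁, h₁⟩ := hH
  obtain ⟨S₂, f₂, hf₂, hs₂, hc₂, h₂⟩ := isTorus_bc f₁ hT
  refine ⟨S₂, f₂ ≫ f₁, inferInstance, inferInstance, fun V hV => ?_, fun x => ?_⟩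
  · obtain ⟨W, hW, hWV⟩ := hc₁ V hV
    obtain ⟨W', hW', hWW'⟩ := AlgBc.qc_cover_of_isCompact f₂ hc₂ W hW
    refine ⟨W', hW', ?_⟩
    have e : (f₂ ≫ f₁).base = f₁.base ∘ f₂.base := by ext x; simp
    rw [e, Set.image_comp, hWW', hWV]
  · obtain ⟨U₁, hU₁, M, _, hM, hm⟩ := h₁ (f₂ x)
    obtain ⟨U₂, hU₂, n, hn⟩ := h₂ x
    refine ⟨U₂ ⊓ f₂ ⁻¹ᵁ U₁, ⟨hU₂, hU₁⟩, M, inferInstance, n, hM, ?_, ?_⟩
    · let U := U₂ ⊓ f₂ ⁻¹ᵁ U₁
      let k : (U : Scheme.{u}) ⟶ U₁ := IsOpenImmersion.lift U₁.ι (U.ι ≫ f₂) (by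
        rintro _ ⟨y, rfl⟩
        simp only [Scheme.Opens.range_ι, Scheme.Hom.comp_apply]
        exact y.2.2)
      have hk : k ≫ U₁.ι = U.ι ≫ f₂ := IsOpenImmersion.lift_fac _ _ _
      have e1 : k ≫ U₁.ι ≫ f₁ = U.ι ≫ f₂ ≫ f₁ := by
        rw [← Category.assoc, hk, Category.assoc]
      have e2 := TorusAlgClosed.isSplitTorusWith_bc k hm
      exact isSplitTorusWith_of_iso ((BcIso.bcCompIso k (U₁.ι ≫ f₁) H).symm ≪≫ BcIso.bcCongrIso e1 H) e2
    · let U := U₂ ⊓ f₂ ⁻¹ᵁ U₁
      let k : (U : Scheme.{u}) ⟶ U₂ := S₂.homOfLE inf_le_left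
      have hk : k ≫ U₂.ι = U.ι := Scheme.homOfLE_ι _ _
      have e1 : (k ≫ U₂.ι ≫ f₂) ≫ f₁ = U.ι ≫ f₂ ≫ f₁ := by
        rw [← Category.assoc k, hk, Category.assoc]
      have e2 := TorusAlgClosed.isSplitTorusWith_bc k hn
      refine isSplitTorusWith_of_iso ?_ e2
      exact (BcIso.bcCompIso k (U₂.ι ≫ f₂) (Red.bc f₁ T)).symm ≪≫ (BcIso.bcCompIso (k ≫ U₂.ι ≫ f₂) f₁ T).symm ≪≫
        BcIso.bcCongrIso e1 T

/-- `D` of a surjection is a closed immersion. -/
theorem isClosedImmersion_DSmap (S : Scheme.{u}) {M N : Type} [AddCommGroup M] [AddCommGroup N] (φ : M →+ N)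
    (hφ : Function.Surjective φ) : IsClosedImmersion (Red.DSmap S φ).left := by
  have h1 : IsClosedImmersion (Red.diagMap (ULift.{u} ℤ) φ).left := by
    refine IsClosedImmersion.spec_of_surjective _ ?_
    change Function.Surjective (MonoidAlgebra.mapDomainAlgHom (ULift.{u} ℤ) (ULift.{u} ℤ)
      (AddMonoidHom.toMultiplicative φ))
    rw [← AlgHom.range_eq_top, eq_top_iff]
    intro x _
    induction x using MonoidAlgebra.induction_linear with
    | zero => exact zero_mem _
    | add x y hx hy => exact add_mem (hx trivial) (hy trivial)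
    | single m c =>
      obtain ⟨m', hm'⟩ := hφ m.toAdd
      refine ⟨MonoidAlgebra.single (Multiplicative.ofAdd m') c, ?_⟩
      change MonoidAlgebra.mapDomain _ _ = _
      rw [MonoidAlgebra.mapDomain_single]
      exact congrArg (fun z => MonoidAlgebra.single (Multiplicative.ofAdd z) c) hm'
  exact MorphismProperty.of_isPullback (H827.DSFlat.isPullback φ S) h1

/-- A monomorphism from a diagonalisable group to a diagonalisable group of finite type is a closed immersion. -/
theorem isClosedImmersion_of_mono_split {M N : Type} [AddCommGroup M] [AddCommGroup N] [Module.Finite ℤ N]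
    {H T : Over S} [GrpObj H] [GrpObj T] (hH : Red.IsSplitTorusWith M H) (hT : Red.IsSplitTorusWith N T)
    (i : H ⟶ T) [IsMonHom i] [Mono i] : IsClosedImmersion i.left := by
  obtain ⟨e⟩ := hH
  obtain ⟨e'⟩ := hT
  have h1 : IsIso e.hom.hom.hom := inferInstanceAs (IsIso ((Grp.forget _).map e.hom))
  have h1' : IsIso e.inv.hom.hom := inferInstanceAs (IsIso ((Grp.forget _).map e.inv))
  have h2 : IsIso e'.hom.hom.hom := inferInstanceAs (IsIso ((Grp.forget _).map e'.hom))
  let g : Red.DS S M ⟶ Red.DS S N := e.inv.hom.hom ≫ i ≫ e'.hom.hom.hom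
  have hg : Mono g := mono_comp _ _
  have key : IsClosedImmersion g.left := by
    refine prop_of_open_cover @IsClosedImmersion g fun s => ?_
    obtain ⟨R, v, φ, hv, hs, -, h4⟩ := BorLoc613.exists_spec_hom g s
    refine ⟨_, v, hv, hs, ?_⟩
    have k1 : IsIso (TorusAlgClosed.dsBcIso v M).hom.hom.hom :=
      inferInstanceAs (IsIso ((Grp.forget _).map (TorusAlgClosed.dsBcIso v M).hom))
    have k2 : IsIso (TorusAlgClosed.dsBcIso v N).hom.hom.hom :=
      inferInstanceAs (IsIso ((Grp.forget _).map (TorusAlgClosed.dsBcIso v N).hom))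
    have h5 : Mono (Red.DSmap (Spec R) φ) := by
      have h6 : Red.DSmap (Spec R) φ = inv (TorusAlgClosed.dsBcIso v M).hom.hom.hom ≫
          ((TorusAlgClosed.dsBcIso v M).hom.hom.hom ≫ Red.DSmap (Spec R) φ) := by simp
      rw [h6, ← h4]
      exact mono_comp _ _
    obtain ⟨x, hx⟩ := hs
    have : Nonempty (Spec R) := ⟨x⟩
    have h6 := DSKit.surjective_of_mono φ h5
    have h7 := isClosedImmersion_DSmap (Spec R) φ h6
    have h8 : (Over.pullback v).map g = (TorusAlgClosed.dsBcIso v M).hom.hom.hom ≫ Red.DSmap (Spec R) φ ≫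
        inv (TorusAlgClosed.dsBcIso v N).hom.hom.hom := by
      rw [← Category.assoc, ← h4, Category.assoc, IsIso.hom_inv_id, Category.comp_id]
    rw [h8, Over.comp_left, Over.comp_left]
    have k3 : IsIso (TorusAlgClosed.dsBcIso v M).hom.hom.hom.left :=
      inferInstanceAs (IsIso ((Over.forget _).map (TorusAlgClosed.dsBcIso v M).hom.hom.hom))
    have k4 : IsIso (inv (TorusAlgClosed.dsBcIso v N).hom.hom.hom).left :=
      inferInstanceAs (IsIso ((Over.forget _).map (inv (TorusAlgClosed.dsBcIso v N).hom.hom.hom)))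
    infer_instance
  have h3 : i = e.hom.hom.hom ≫ g ≫ inv e'.hom.hom.hom := by
    have h9 : e.hom.hom.hom ≫ e.inv.hom.hom = 𝟙 _ := by
      rw [← Grp.comp_hom_hom, e.hom_inv_id]; rfl
    simp only [g, Category.assoc, IsIso.hom_inv_id, Category.comp_id]
    rw [← Category.assoc, h9, Category.id_comp]
  rw [h3, Over.comp_left, Over.comp_left]
  have k3 : IsIso e.hom.hom.hom.left := inferInstanceAs (IsIso ((Over.forget _).map e.hom.hom.hom))
  have k4 : IsIso (inv e'.hom.hom.hom).left := inferInstanceAs (IsIso ((Over.forget _).map (inv e'.hom.hom.hom)))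
  infer_instance

/-- **A monomorphism from a group of multiplicative type to a torus is a closed immersion.** -/
theorem isClosedImmersion_of_mono {H T : Over S} [GrpObj H] [GrpObj T] (hH : SGA3x.IsMultTypeFT H)
    (hT : Red.IsTorus T) (i : H ⟶ T) [IsMonHom i] [Mono i] : IsClosedImmersion i.left := by
  obtain ⟨S', f, hf, hs, hc, h⟩ := exists_cover_split hH hT
  refine H798.FpqcIso.prop_of_fpqc_cover @IsClosedImmersion f hc i fun s' => ?_
  obtain ⟨U, hU, M, _, n, hM, h1, h2⟩ := h s'
  refine ⟨U, hU, ?_⟩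
  have h3 : IsMonHom ((Over.pullback (U.ι ≫ f)).map i) := inferInstance
  exact isClosedImmersion_of_mono_split h1 h2 _

/-- The fppf quotient (for right translations) by a closed subgroup is separated. -/
theorem isSeparated_of_isQuotient {F G X : Over S} [GrpObj G] (u : F ⟶ G) (p : G ⟶ X)
    [IsClosedImmersion u.left] (hq : RedSub.IsQuotient u p) : IsSeparated X.hom := by
  obtain ⟨q1, q2, q3, hp⟩ := hq
  have h1 := Sga3C.QuotProps.isPullback_diagonal hp
  let sh : G ⊗ G ≅ G ⊗ G :=
    { hom := lift (fst G G) μ[G]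
      inv := lift (fst G G) ((fst G G)⁻¹ * snd G G)
      hom_inv_id := by
        have hμ : μ[G] = fst G G * snd G G := by
          rw [Hom.mul_def]; simp
        ext1
        · simp
        · simp only [comp_lift, lift_snd, comp_mul, comp_inv, lift_fst, hμ, inv_mul_cancel_left, Category.id_comp]
      inv_hom_id := by
        have hμ : μ[G] = fst G G * snd G G := by
          rw [Hom.mul_def]; simp
        ext1
        · simp
        · simp only [comp_lift, lift_snd, comp_mul, lift_fst, hμ, mul_inv_cancel_left, Category.id_comp] }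
  have h2 : lift (fst G F) ((G ◁ u) ≫ μ[G]) = (G ◁ u) ≫ sh.hom := by
    ext1 <;> simp [sh]
  have h3 : IsClosedImmersion (G ◁ u).left :=
    MorphismProperty.pullbackMap (P := @IsClosedImmersion) (i₁ := 𝟙 G.left) (i₂ := u.left) inferInstance ‹_›
      (Category.id_comp _).symm (Over.w u).symm
  have h4 : IsClosedImmersion (lift (fst G F) ((G ◁ u) ≫ μ[G])).left := by
    have k0 : IsIso sh.hom := sh.isIso_hom
    have k1 : IsIso sh.hom.left := Functor.map_isIso (Over.forget S) sh.hom
    rw [h2, Over.comp_left]; infer_instance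
  have h5 : (@Surjective ⊓ @Flat ⊓ @LocallyOfFinitePresentation : MorphismProperty Scheme.{u}) (p ⊗ₘ p).left :=
    ⟨⟨Sga3C.QuotProps.tensorHom_left_of (@Surjective) p p ‹_› ‹_›,
      Sga3C.QuotProps.tensorHom_left_of (@Flat) p p ‹_› ‹_›⟩,
      Sga3C.QuotProps.tensorHom_left_of (@LocallyOfFinitePresentation) p p ‹_› ‹_›⟩
  have h6 := h1.map (Over.forget S)
  have h7 : IsClosedImmersion (lift (𝟙 X) (𝟙 X)).left := by
    refine MorphismProperty.of_isPullback_of_descendsAlong (P := @IsClosedImmersion)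
      (Q := @Surjective ⊓ @Flat ⊓ @LocallyOfFinitePresentation) h6 h5 h4
  exact ⟨h7⟩

/-- The quotient is separated and locally of finite type. -/
theorem quot_props {T H Q : Over S} [GrpObj T] [GrpObj H] (hT : Red.IsTorus T) (i : H ⟶ T) [IsMonHom i] [Mono i]
    (hH : SGA3x.IsMultTypeFT H) (q : T ⟶ Q) (hq : RedSub.IsQuotient i q) :
    IsSeparated Q.hom ∧ LocallyOfFiniteType Q.hom := by
  have h1 := isClosedImmersion_of_mono hH hT i
  have h2 := TorusAlgClosed.smooth_of_isTorus hT
  refine ⟨isSeparated_of_isQuotient i q hq, ?_⟩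
  obtain ⟨q1, q2, q3, -⟩ := hq
  have h3 : LocallyOfFiniteType (q.left ≫ Q.hom) := by
    rw [Over.w]
    infer_instance
  exact S4091.locallyOfFiniteType_of_fppf_comp q.left Q.hom

/-- **The quotient of a torus by a subgroup of multiplicative type is a torus.** -/
theorem isTorus_quotient {T H Q : Over S} [GrpObj T] [GrpObj H] [GrpObj Q] (hT : Red.IsTorus T) (i : H ⟶ T)
    [IsMonHom i] [Mono i] (hH : SGA3x.IsMultTypeFT H) (q : T ⟶ Q) [IsMonHom q] (hq : RedSub.IsQuotient i q) :
    Red.IsTorus Q := by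
  obtain ⟨h1, h2⟩ := quot_props hT i hH q hq
  have h3 := hq.1
  have h4 := hq.2.1
  exact H827.ImgTorus.isTorus_of_factor q hT q (𝟙 Q) (Category.comp_id q)

/-- **The quotient of a locally split torus by a subgroup of multiplicative type is a locally split torus.** -/
theorem isLocSplit_quotient {T H Q : Over S} [GrpObj T] [GrpObj H] [GrpObj Q] (hT : LocSplit.IsLocSplit T) (i : H ⟶ T)
    [IsMonHom i] [Mono i] (hH : SGA3x.IsMultTypeFT H) (q : T ⟶ Q) [IsMonHom q] (hq : RedSub.IsQuotient i q) :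
    LocSplit.IsLocSplit Q := by
  obtain ⟨h1, h2⟩ := quot_props (LocSplit.isTorus hT) i hH q hq
  have h3 := hq.1
  have h4 := hq.2.1
  exact LocSplit.isLocSplit_of_factor q hT q (𝟙 Q) (Category.comp_id q)

end K19.TorQuot
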