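import Groth.Agent.SGA3x.K19.BorelQuot
import Groth.Agent.AlgGrp.K411.Bc
import Groth.Agent.Sga3.H798.FpqcIso
import Groth.Agent.Sga3B.ParBc

/-!
# Borel subgroups and homomorphisms with kernel in the radical, over an arbitrary field
-/

set_option autoImplicit false
universe u
open CategoryTheory MonoidalCategory CartesianMonoidalCategory MonObj GrpObj AlgebraicGeometry Limits

namespace K19.BorelBij

open Groth.Agent Groth.Agent.Sga3.H739.Fpqc K395 K19.BorelQuot Groth.Agent.AlgGrp.K411

section Desc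

variable {S S' : Scheme.{u}} (σ : S' ⟶ S) [Flat σ] [Surjective σ] [QuasiCompact σ]

/-- Descent of properties of morphisms of `S`-schemes along a cover of the base. -/
theorem map_desc (P : MorphismProperty Scheme.{u}) [P.DescendsAlong (@Surjective ⊓ @Flat ⊓ @QuasiCompact)]
    {X Y : Over S} (φ : X ⟶ Y) (h : P ((Over.pullback σ).map φ).left) : P φ.left := by
  refine MorphismProperty.of_isPullback_of_descendsAlong
    (Q := @Surjective ⊓ @Flat ⊓ @QuasiCompact) (Sga3.H798.FpqcIso.isPullback_map_left σ φ).flip ?_ h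
  exact ⟨⟨inferInstance, inferInstance⟩, inferInstance⟩

theorem isIso_desc {X Y : Over S} (φ : X ⟶ Y) (h : IsIso ((Over.pullback σ).map φ)) : IsIso φ := by
  have h1 : IsIso ((Over.pullback σ).map φ).left :=
    inferInstanceAs (IsIso ((Over.forget _).map ((Over.pullback σ).map φ)))
  have h2 : IsIso φ.left := map_desc σ (MorphismProperty.isomorphisms Scheme.{u}) φ h1
  have : IsIso ((Over.forget _).map φ) := h2
  exact isIso_of_reflects_iso φ (Over.forget _)

theorem hom_desc (P : MorphismProperty Scheme.{u}) [P.DescendsAlong (@Surjective ⊓ @Flat ⊓ @QuasiCompact)]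
    {X : Over S} (h : P ((Over.pullback σ).obj X).hom) : P X.hom :=
  MorphismProperty.of_pullback_snd_of_descendsAlong
    (Q := @Surjective ⊓ @Flat ⊓ @QuasiCompact) (g := σ)
    ⟨⟨inferInstance, inferInstance⟩, inferInstance⟩ h

end Desc

variable {k : Type u} [Field k]

lemma flat_geomPt (s : Spec (CommRingCat.of k)) : Flat (Red.geomPt s) := by
  have h1 : IsIntegral (Spec (CommRingCat.of k)) := inferInstance
  have h2 : Subsingleton (Spec (CommRingCat.of k)) := inferInstanceAs (Subsingleton (PrimeSpectrum k))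
  infer_instance

lemma surjective_geomPt (s : Spec (CommRingCat.of k)) : Surjective (Red.geomPt s) := by
  have h2 : Subsingleton (Spec (CommRingCat.of k)) := inferInstanceAs (Subsingleton (PrimeSpectrum k))
  exact ⟨fun y => ⟨IsLocalRing.closedPoint _, Subsingleton.elim _ _⟩⟩

/-- the hypothesis that the kernel of `u` is contained in a smooth connected solvable normal subgroup -/
def KerRad {K : Type u} [Field K] {G G' : Over (Spec (CommRingCat.of K))} [GrpObj G] [GrpObj G'] (u : G ⟶ G') : Prop :=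
  ∃ (R : Over (Spec (CommRingCat.of K))) (_ : GrpObj R) (r : R ⟶ G), IsMonHom r ∧ IsClosedImmersion r.left ∧
    Smooth R.hom ∧ ConnectedSpace R.left ∧ Red.IsSolvableGrp R ∧
      (∀ (X : Over (Spec (CommRingCat.of K))) (g : X ⟶ G) (x : X ⟶ R), ∃ x' : X ⟶ R, g * (x ≫ r) * g⁻¹ = x' ≫ r) ∧
      (∀ (X : Over (Spec (CommRingCat.of K))) (g : X ⟶ G), g ≫ u = 1 → ∃ x : X ⟶ R, x ≫ r = g)

variable {G G' : Over (Spec (CommRingCat.of k))} [GrpObj G] [GrpObj G'] [Smooth G.hom] [QuasiCompact G.hom]
  [Smooth G'.hom] [QuasiCompact G'.hom] (u : G ⟶ G') [IsMonHom u] [Flat u.left] [Surjective u.left]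
  (hrad : ∀ s : ↥(Spec (CommRingCat.of k)), KerRad ((Over.pullback (Red.geomPt s)).map u))

/-- The geometric fibres of a subgroup are Borel subgroups. -/
def GeomBorel {B G : Over (Spec (CommRingCat.of k))} [GrpObj B] [GrpObj G] (b : B ⟶ G) : Prop :=
  ∀ s : ↥(Spec (CommRingCat.of k)),
    Red.IsBorelOver (AlgebraicClosure ((Spec (CommRingCat.of k)).residueField s)) ((Over.pullback (Red.geomPt s)).map b)

include hrad

theorem preimage {B B' : Over (Spec (CommRingCat.of k))} [GrpObj B] [GrpObj B'] (b' : B' ⟶ G')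
    (hb' : Mono b' ∧ QuasiCompact B'.hom ∧ GeomBorel b') (b : B ⟶ G) [IsMonHom b] (v : B ⟶ B') [IsMonHom v]
    (h : IsPullback b v u b') : Mono b ∧ Smooth B.hom ∧ QuasiCompact B.hom ∧ GeomBorel b := by
  obtain ⟨h1, h2, h3⟩ := hb'
  have hu : Cov u := CovKit.cov_of u
  have hg : GeomBorel b := by
    intro s
    obtain ⟨R, _, r, r1, r2, r3, r4, r5, r6, r7⟩ := hrad s
    have e1 : Smooth ((Over.pullback (Red.geomPt s)).obj G).hom := Bc.hom_mem (P := @Smooth) _ ‹_›
    have e2 : QuasiCompact ((Over.pullback (Red.geomPt s)).obj G).hom := Bc.hom_mem (P := @QuasiCompact) _ ‹_›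
    have e3 : Smooth ((Over.pullback (Red.geomPt s)).obj G').hom := Bc.hom_mem (P := @Smooth) _ ‹_›
    have e4 : QuasiCompact ((Over.pullback (Red.geomPt s)).obj G').hom := Bc.hom_mem (P := @QuasiCompact) _ ‹_›
    have e5 : Cov ((Over.pullback (Red.geomPt s)).map u) :=
      ⟨Bc.map_left_mem (P := @Flat) _ u ‹_›, Bc.map_left_mem (P := @Surjective) _ u ‹_›,
        Bc.map_left_mem (P := @QuasiCompact) _ u hu.qc⟩
    exact borel_preimage _ e5 r r5 (fun T g n => r6 T g n) r7 _ (h3 s) _ ((Over.pullback (Red.geomPt s)).map v)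
      (h.map _)
  obtain ⟨s⟩ : Nonempty (Spec (CommRingCat.of k)) := inferInstance
  have hσ1 := flat_geomPt s
  have hσ2 := surjective_geomPt s
  refine ⟨?_, ?_, ?_, hg⟩
  · exact ⟨fun x y hxy => h.hom_ext hxy (by
      rw [← cancel_mono b', Category.assoc, Category.assoc, ← h.w, ← Category.assoc, hxy, Category.assoc])⟩
  · exact hom_desc (Red.geomPt s) @Smooth (hg s).2.2.1
  · have hG's : IsSeparated G'.hom := Groth.Agent.Localalg.GrpSchComp2.isSeparated_hom G'
    have h4 : QuasiCompact b'.left := by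
      have : QuasiCompact (b'.left ≫ G'.hom) := by rw [Over.w]; infer_instance
      exact QuasiCompact.of_comp b'.left G'.hom
    have h5 : QuasiCompact b.left :=
      MorphismProperty.of_isPullback (P := @QuasiCompact) (h.map (Over.forget _)).flip h4
    rw [← Over.w b]
    infer_instance

theorem image {B : Over (Spec (CommRingCat.of k))} [GrpObj B] (b : B ⟶ G)
    (hb : IsMonHom b ∧ Mono b ∧ Smooth B.hom ∧ QuasiCompact B.hom ∧ GeomBorel b) :
    ∃ (B' : Over (Spec (CommRingCat.of k))) (_ : GrpObj B') (b' : B' ⟶ G') (v : B ⟶ B'),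
      (IsMonHom b' ∧ Mono b' ∧ Smooth B'.hom ∧ QuasiCompact B'.hom ∧ GeomBorel b') ∧ IsMonHom v ∧
        IsPullback b v u b' := by
  obtain ⟨hb1, hb2, hb3, hb4, hb5⟩ := hb
  have hu : Cov u := CovKit.cov_of u
  obtain ⟨B', gB', v, b', h1, h2, h3, h4, h5⟩ := Hom.exists_image (b ≫ u)
  have hb'm : Mono b' := Books.AlgPtsGrp.mono_of_isClosedImmersion b'
  obtain ⟨P, gP, p, x, e1, e2, e3, e4⟩ := exists_preimage u b'
  have key : ∀ s : ↥(Spec (CommRingCat.of k)),
      Red.IsBorelOver (AlgebraicClosure ((Spec (CommRingCat.of k)).residueField s))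
        ((Over.pullback (Red.geomPt s)).map b') ∧
      IsPullback ((Over.pullback (Red.geomPt s)).map b) ((Over.pullback (Red.geomPt s)).map v)
        ((Over.pullback (Red.geomPt s)).map u) ((Over.pullback (Red.geomPt s)).map b') := by
    intro s
    obtain ⟨R, _, r, r1, r2, r3, r4, r5, r6, r7⟩ := hrad s
    have e1 : Smooth ((Over.pullback (Red.geomPt s)).obj G).hom := Bc.hom_mem (P := @Smooth) _ ‹_›
    have e2 : QuasiCompact ((Over.pullback (Red.geomPt s)).obj G).hom := Bc.hom_mem (P := @QuasiCompact) _ ‹_›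
    have e3 : Smooth ((Over.pullback (Red.geomPt s)).obj G').hom := Bc.hom_mem (P := @Smooth) _ ‹_›
    have e4 : QuasiCompact ((Over.pullback (Red.geomPt s)).obj G').hom := Bc.hom_mem (P := @QuasiCompact) _ ‹_›
    have e5 : Cov ((Over.pullback (Red.geomPt s)).map u) :=
      ⟨Bc.map_left_mem (P := @Flat) _ u ‹_›, Bc.map_left_mem (P := @Surjective) _ u ‹_›,
        Bc.map_left_mem (P := @QuasiCompact) _ u hu.qc⟩
    obtain ⟨C, gC, c, w, c1, c2, c3, c4⟩ := exists_borel_image _ e5 r r5 (fun T g n => r6 T g n) r7 _ (hb5 s)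
    have hvc : Cov ((Over.pullback (Red.geomPt s)).map v) :=
      ⟨Bc.map_left_mem (P := @Flat) _ v h4.flat, Bc.map_left_mem (P := @Surjective) _ v h4.surj,
        Bc.map_left_mem (P := @QuasiCompact) _ v h4.qc⟩
    have hcm : Mono c := by
      have := c1.2.1
      exact Books.AlgPtsGrp.mono_of_isClosedImmersion c
    have hcmh := c1.1
    have hw : (Over.pullback (Red.geomPt s)).map v ≫ (Over.pullback (Red.geomPt s)).map b' = w ≫ c := by
      rw [← c4.w, ← Functor.map_comp, ← Functor.map_comp, h3]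
    obtain ⟨f, hf⟩ := hvc.exists_lift_of_mono c ((Over.pullback (Red.geomPt s)).map b') w hw.symm
    obtain ⟨g, hg⟩ := c3.exists_lift_of_mono ((Over.pullback (Red.geomPt s)).map b') c _ hw
    let e : (Over.pullback (Red.geomPt s)).obj B' ≅ C := ⟨f, g, by
      rw [← cancel_mono ((Over.pullback (Red.geomPt s)).map b'), Category.assoc, hg, hf, Category.id_comp], by
      rw [← cancel_mono c, Category.assoc, hf, hg, Category.id_comp]⟩
    have hgm : IsMonHom e.inv := by
      have : IsMonHom (e.inv ≫ (Over.pullback (Red.geomPt s)).map b') := by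
        change IsMonHom (g ≫ _)
        rw [hg]; infer_instance
      exact Sga3C.SubGrp.isMonHom_of_comp_mono e.inv ((Over.pullback (Red.geomPt s)).map b')
    have hgm' : IsMonHom e.symm.hom := hgm
    constructor
    · refine Sga3B.ParBc.isBorelOver_of_arrow (Grp.mkIso' e.symm) (Iso.refl _) ?_ c1
      change c ≫ 𝟙 _ = g ≫ _
      rw [hg, Category.comp_id]
    · refine IsPullback.of_iso c4 (Iso.refl _) (Iso.refl _) e.symm (Iso.refl _) (by simp) ?_ (by simp) ?_
      · change w ≫ g = 𝟙 _ ≫ _
        rw [← cancel_mono ((Over.pullback (Red.geomPt s)).map b'), Category.assoc, hg, Category.id_comp, hw]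
      · change c ≫ 𝟙 _ = g ≫ _
        rw [hg, Category.comp_id]
  obtain ⟨s⟩ : Nonempty (Spec (CommRingCat.of k)) := inferInstance
  have hσ1 := flat_geomPt s
  have hσ2 := surjective_geomPt s
  have hiso : IsIso (e4.lift b v h3.symm) := by
    refine isIso_desc (Red.geomPt s) _ ?_
    have k1 := (key s).2
    have k2 := e4.map (Over.pullback (Red.geomPt s))
    have k3 : (Over.pullback (Red.geomPt s)).map (e4.lift b v h3.symm) =
        (k1.isoIsPullback _ _ k2).hom := by
      apply k2.hom_ext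
      · rw [← Functor.map_comp, e4.lift_fst, IsPullback.isoIsPullback_hom_fst]
      · rw [← Functor.map_comp, e4.lift_snd, IsPullback.isoIsPullback_hom_snd]
    rw [k3]
    infer_instance
  have h6 := h4.flat
  have h7 := h4.surj
  have hB'l : LocallyOfFiniteType B'.hom := by rw [← Over.w b']; infer_instance
  refine ⟨B', gB', b', v, ⟨h2, hb'm, HomKit.smooth_of_flat_surjective v, ?_, fun s => (key s).1⟩, h1, ?_⟩
  · rw [← Over.w b']; infer_instance
  · exact IsPullback.of_iso e4 (asIso (e4.lift b v h3.symm)).symm (Iso.refl _) (Iso.refl _) (Iso.refl _)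
      (by simp) (by simp) (by simp) (by simp)

end K19.BorelBij
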