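import Groth.Agent.Sga3B.Parab.TorRank156
import Groth.Agent.Sga3B.BorLoc613
import Groth.Agent.Sga3B.BorSpan613

/-!
# Homomorphisms between diagonalisable groups: monomorphisms and surjections of character groups
-/

set_option autoImplicit false
universe u
open CategoryTheory MonoidalCategory CartesianMonoidalCategory MonObj GrpObj AlgebraicGeometry Limits

namespace K19.DSKit

open Groth.Agent.Sga3B Groth.Agent.Sga3B.InfConj Groth.Agent.Sga3B.InfConjFam Groth.Agent.Sga3B.DSPts
  Groth.Agent.Sga3B.DSRigid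

section affine

variable {R : Type u} [CommRing R] {M N : Type} [AddCommGroup M] [AddCommGroup N]

lemma charPt_DSmap {E : Type u} [CommRing E] [Algebra R E] (φ : M →+ N) (χ : Multiplicative N →* E) :
    charPt (C := R) χ ≫ Red.DSmap (Spec (.of R)) φ = charPt (χ.comp (AddMonoidHom.toMultiplicative φ)) := by
  rw [charPt, charPt, dsEquiv_DSmap]
  rfl

/-- A monomorphism of diagonalisable groups is given by a surjection of character groups. -/
theorem surjective_of_mono_spec [Nontrivial R] (φ : M →+ N) (h : Mono (Red.DSmap (Spec (.of R)) φ)) :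
    Function.Surjective φ := by
  let π : N →+ N ⧸ φ.range := QuotientAddGroup.mk' φ.range
  let E := MonoidAlgebra R (Multiplicative (N ⧸ φ.range))
  let χ : Multiplicative N →* E :=
    (MonoidAlgebra.of R (Multiplicative (N ⧸ φ.range))).comp (AddMonoidHom.toMultiplicative π)
  have h1 : charPt (C := R) χ ≫ Red.DSmap (Spec (.of R)) φ =
      charPt (C := R) (1 : Multiplicative N →* E) ≫ Red.DSmap (Spec (.of R)) φ := by
    rw [charPt_DSmap, charPt_DSmap]
    congr 1
    refine MonoidHom.ext fun m => ?_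
    change MonoidAlgebra.of R _ (Multiplicative.ofAdd (π (φ m.toAdd))) = 1
    have h2 : π (φ m.toAdd) = 0 := (QuotientAddGroup.eq_zero_iff _).2 ⟨_, rfl⟩
    rw [h2]
    exact map_one _
  have h2 := charPt_injective ((cancel_mono _).1 h1)
  intro n
  have h3 := congr($h2 (Multiplicative.ofAdd n))
  change MonoidAlgebra.of R _ (Multiplicative.ofAdd (π n)) = 1 at h3
  have h4 : Function.Injective (MonoidAlgebra.of R (Multiplicative (N ⧸ φ.range))) := MonoidAlgebra.of_injective
  rw [← map_one (MonoidAlgebra.of R (Multiplicative (N ⧸ φ.range)))] at h3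
  have h5 : π n = 0 := h4 h3
  exact (QuotientAddGroup.eq_zero_iff _).1 h5

end affine

variable {S S' : Scheme.{u}} {M N : Type} [AddCommGroup M] [AddCommGroup N]

lemma mono_bc (v : S' ⟶ S) {X Y : Over S} (f : X ⟶ Y) [Mono f] : Mono ((Over.pullback v).map f) :=
  inferInstance

lemma mono_DSmap_bc (v : S' ⟶ S) (φ : M →+ N) (h : Mono (Red.DSmap S φ)) : Mono (Red.DSmap S' φ) := by
  have h1 := BorLoc613.dsBcIso_naturality v φ
  have h2 : IsIso (TorusAlgClosed.dsBcIso v M).hom.hom.hom :=
    inferInstanceAs (IsIso ((Grp.forget _).map (TorusAlgClosed.dsBcIso v M).hom))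
  have h3 : IsIso (TorusAlgClosed.dsBcIso v N).hom.hom.hom :=
    inferInstanceAs (IsIso ((Grp.forget _).map (TorusAlgClosed.dsBcIso v N).hom))
  have h4 : Mono ((TorusAlgClosed.dsBcIso v N).hom.hom.hom ≫ Red.DSmap S' φ) := by
    rw [← h1]
    exact mono_comp _ _
  have h5 : Red.DSmap S' φ = inv (TorusAlgClosed.dsBcIso v N).hom.hom.hom ≫
      ((TorusAlgClosed.dsBcIso v N).hom.hom.hom ≫ Red.DSmap S' φ) := by simp
  rw [h5]
  exact mono_comp _ _

theorem surjective_of_mono [Nonempty S] (φ : M →+ N) (h : Mono (Red.DSmap S φ)) : Function.Surjective φ := by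
  obtain ⟨s⟩ := ‹Nonempty S›
  exact surjective_of_mono_spec (R := S.residueField s) φ (mono_DSmap_bc (S.fromSpecResidueField s) φ h)

/-- `D` of an isomorphism is an isomorphism. -/
lemma isIso_DSmap (S : Scheme.{u}) (φ : M →+ N) (h : Function.Bijective φ) : IsIso (Red.DSmap S φ) := by
  let e : M ≃+ N := AddEquiv.ofBijective φ h
  obtain ⟨E, hE, -⟩ := BorSpan613.exists_iso_DS S e
  have h1 : Red.DSmap S φ = E.hom.hom.hom := hE.symm
  rw [h1]
  exact inferInstanceAs (IsIso ((Grp.forget _).map E.hom))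

/-- A surjective endomorphism-like map between finite free groups of the same rank is bijective. -/
lemma bijective_of_surjective {r r' : ℕ} (hr : r ≤ r') (φ : (Fin r → ℤ) →+ (Fin r' → ℤ)) (h : Function.Surjective φ) :
    Function.Bijective φ ∧ r = r' := by
  have h1 : Function.Surjective φ.toIntLinearMap := h
  have h2 : r' ≤ r := by
    have := LinearMap.finrank_le_finrank_of_surjective h1
    simpa using this
  obtain rfl : r = r' := le_antisymm hr h2
  refine ⟨?_, rfl⟩
  exact OrzechProperty.bijective_of_surjective_endomorphism φ.toIntLinearMap h1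

/-- A monomorphism between split tori `D(ℤ^r') ⟶ D(ℤ^r)` over a local ring with `r ≤ r'` is an isomorphism. -/
theorem isIso_of_mono_local {R : Type u} [CommRing R] [IsLocalRing R] {r r' : ℕ} (hr : r ≤ r')
    {T T' : Over (Spec (.of R))} [GrpObj T] [GrpObj T'] (hT : Red.IsSplitTorusWith (Fin r' → ℤ) T)
    (hT' : Red.IsSplitTorusWith (Fin r → ℤ) T') (f : T ⟶ T') [IsMonHom f] [Mono f] : IsIso f := by
  obtain ⟨a⟩ := hT
  obtain ⟨b⟩ := hT'
  have ha : IsIso a.inv.hom.hom := inferInstanceAs (IsIso ((Grp.forget _).map a.inv))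
  have hb : IsIso b.hom.hom.hom := inferInstanceAs (IsIso ((Grp.forget _).map b.hom))
  obtain ⟨φ, hφ⟩ := exists_eq_DSmap (a.inv.hom.hom ≫ f ≫ b.hom.hom.hom)
  have h1 : Mono (Red.DSmap (Spec (.of R)) φ) := by
    rw [← hφ]
    exact mono_comp _ _
  have h2 := surjective_of_mono_spec φ h1
  have h3 := isIso_DSmap (Spec (.of R)) φ (bijective_of_surjective hr φ h2).1
  rw [← hφ] at h3
  have h4 : IsIso (f ≫ b.hom.hom.hom) := IsIso.of_isIso_comp_left a.inv.hom.hom _
  exact IsIso.of_isIso_comp_right f b.hom.hom.hom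

end K19.DSKit
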