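import Groth.Agent.Redsub.H649.ConjLoc
import Groth.Agent.Sga3.H813.RepCrit
import Groth.Agent.Sga3.H665.TorBcNA
import Groth.Agent.Sga3B.TorClosed636
import Groth.Agent.RedSub.H650.QuotPts
import Groth.Agent.S4132
import Groth.Agent.S4116
import Groth.Agent.S3006
import Groth.Agent.S0084

/-!
# The quotient of a smooth affine group by the normalizer of a maximal torus

`G` a smooth affine `S`-group, `i : T ⟶ G` a maximal torus, `n : N ⟶ G` its normalizer, `c : C ⟶ G` its centralizer.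

* `exists_quotient`: the scheme of maximal tori of `G`, which is smooth and affine over `S`, is the quotient `G / N`;
* `isAffineHom_quotient`: any quotient `G / N` is affine over `S`;
* `isFinite_of_quotients`: `G / C ⟶ G / N` is finite when `N / C` is.
-/

set_option autoImplicit false
universe u
open CategoryTheory MonoidalCategory CartesianMonoidalCategory MonObj GrpObj AlgebraicGeometry Limits

namespace K19.NormQuot

open Groth.Agent Groth.Agent.Sga3B Groth.Agent.Sga3B.BcPts Groth.Agent.Sga3B.MT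
open Groth.Agent.Redsub.H649.ConjPts Groth.Agent.Redsub.H649.QuotCrit Groth.Agent.Redsub.H649.ConjLoc

variable {S : Scheme.{u}}

/-- The two forms of the functor of maximal tori agree. -/
theorem representsTor {G : Over S} [GrpObj G] {M : Over S} {Tu : Over M.left} [GrpObj Tu]
    {iu : Tu ⟶ Red.bc M.hom G} (h : SGA3x.RepresentsMaxTori G M Tu iu) : RedSub.RepresentsTor G M Tu iu := by
  have hm : Mono iu := h.1.2.1
  refine ⟨h.1, fun S' f H' _ h' hh' => ?_⟩
  have hm' : Mono h' := hh'.2.1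
  obtain ⟨v, ⟨hv1, φ, hφ1, hφ2⟩, hv3⟩ := h.2 S' f H' h' hh'
  refine ⟨v, ⟨hv1, fun X y γ => Sga3.H813.RepCrit.pt_iff_of_iso h' M iu v φ hφ1 hφ2 X y γ⟩, ?_⟩
  rintro g ⟨hg1, hg2⟩
  exact hv3 g ⟨hg1, Sga3.H813.RepCrit.exists_iso_of_pt h' M iu g hg2⟩

/-- Conjugacy by a section, in terms of points. -/
theorem conjEq_of_conjBy {G T₁ T₂ : Over S} [GrpObj G] {i₁ : T₁ ⟶ G} {i₂ : T₂ ⟶ G} {g : 𝟙_ (Over S) ⟶ G}
    (h : SGA3x.ConjBy i₁ i₂ g) : RedSub.ConjEq i₁ i₂ g := by
  obtain ⟨φ, hφ⟩ := h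
  have key : ∀ (X : Over S) (t : X ⟶ T₁), (toUnit X ≫ g) * (t ≫ i₁) * (toUnit X ≫ g)⁻¹ = (t ≫ φ.hom) ≫ i₂ := by
    intro X t
    have h1 := congrArg (fun q => t ≫ q) hφ
    simp only [MonObj.comp_mul, GrpObj.comp_inv, comp_toUnit_assoc] at h1
    rw [h1, Category.assoc]
  intro X' x
  obtain rfl : x = toUnit X' := toUnit_unique _ _
  refine ⟨fun t => ⟨t ≫ φ.hom, key X' t⟩, fun t' => ⟨t' ≫ φ.inv, ?_⟩⟩
  have h2 := key X' (t' ≫ φ.inv)
  simp only [Category.assoc, Iso.inv_hom_id_assoc] at h2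
  rw [← h2, Category.assoc]
  group

section

variable {G T N : Over S} [GrpObj G] [GrpObj T] [GrpObj N] [IsAffineHom G.hom] [Smooth G.hom] (i : T ⟶ G)
  (hT : Red.IsMaximalTorus i) (n : N ⟶ G) (hN : Red.IsNormalizerOf i n)

include hT

theorem hasMaxTorus : SGA3x.HasMaxTorusFpqcLocally G := by
  refine ⟨S, 𝟙 S, inferInstance, inferInstance, fun V hV => ⟨V, hV.isCompact, by simp⟩, Red.bc (𝟙 S) T,
    inferInstance, (Over.pullback (𝟙 S)).map i, Sga3.H665.TorBcNA.isMaximalTorus_bc _ hT⟩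

include hN

/-- **The scheme of maximal tori is the quotient by the normalizer.** -/
theorem exists_quotient : ∃ (M : Over S) (q : G ⟶ M), RedSub.IsQuotient n q ∧ Smooth M.hom ∧
    IsAffineHom M.hom ∧ Smooth q.left := by
  have h3 : IsMonHom i := hT.1
  have h3' : Mono i := hT.2.1
  have h4 : IsClosedImmersion i.left := Sga3B.TorClosed636.isClosedImmersion_of_isTorus i hT.2.2.1
  have hNs : Smooth N.hom := by
    obtain ⟨-, N', _, n', hN', -, hN's⟩ := S3006.result S G T i h4 hT.2.2.1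
    have hm : Mono n := hN.2.1
    have hm' : Mono n' := hN'.2.1
    obtain ⟨a, ha⟩ := (hN.2.2 N' n').2 ((hN'.2.2 N' n').1 ⟨𝟙 _, Category.id_comp _⟩)
    obtain ⟨b, hb⟩ := (hN'.2.2 N n).2 ((hN.2.2 N n).1 ⟨𝟙 _, Category.id_comp _⟩)
    have hab : a ≫ b = 𝟙 _ := by
      rw [← cancel_mono n', Category.assoc, hb, ha, Category.id_comp]
    have hba : b ≫ a = 𝟙 _ := by
      rw [← cancel_mono n, Category.assoc, ha, hb, Category.id_comp]
    have hiso : IsIso b := ⟨a, hba, hab⟩
    have hiso' : IsIso b.left := inferInstanceAs (IsIso ((Over.forget _).map b))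
    rw [← Over.w b]
    exact (MorphismProperty.cancel_left_of_respectsIso @Smooth b.left N'.hom).2 hN's
  obtain ⟨M, Tu, _, iu, k1, k2, k3, k4⟩ := S4132.result S G (hasMaxTorus i hT)
  have hM := representsTor k1
  have hcl : Classifies i M iu := by
    intro S' f g₀
    exact hM.2 S' f (Red.bc f T) (fam i g₀)
      (MT.isMaximalTorus_comp_cj g₀ _ (Sga3.H665.TorBcNA.isMaximalTorus_bc f hT))
  have hlc : LocConj i M iu := by
    have h5 : IsAffineHom (Red.bc M.hom G).hom := MorphismProperty.pullback_snd _ _ ‹_›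
    have h6 : Smooth (Red.bc M.hom G).hom := MorphismProperty.pullback_snd _ _ ‹_›
    obtain ⟨V, π, e1, e2, g, hg⟩ := S4116.result M.left (Red.bc M.hom G) (Red.bc M.hom T) Tu
      ((Over.pullback M.hom).map i) iu (Sga3.H665.TorBcNA.isMaximalTorus_bc M.hom hT) hM.1
    exact locConj_of_conjEq fun m => ⟨V, π, inferInstance, inferInstance, π.surjective m, g, conjEq_of_conjBy hg⟩
  obtain ⟨q, hq1, hq2, hq3⟩ := Groth.Agent.Redsub.H649.QuotCrit.exists_quotient hN hNs hcl hlc
  exact ⟨M, q, hq2, k2, k3, hq3⟩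

/-- **The quotient by the normalizer of a maximal torus is affine.** -/
theorem isAffineHom_quotient {Q : Over S} (q : G ⟶ Q) (hq : RedSub.IsQuotient n q) : IsAffineHom Q.hom := by
  obtain ⟨M, p, h1, h2, h3, h4⟩ := exists_quotient i hT n hN
  obtain ⟨e, he⟩ := RedSub.H650.QuotPts.exists_iso hq h1
  have : IsIso e.hom.left := inferInstanceAs (IsIso ((Over.forget _).map e.hom))
  rw [← Over.w e.hom]
  infer_instance

end

end K19.NormQuot
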