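import Groth.Agent.RedSub.H650.QuotPts
import Groth.Agent.AlgGrp.K395.Quo
import Groth.Agent.S0079
import Groth.Agent.S0084

/-!
# Iterated quotients

`C ⊆ N ⊆ G` subgroups of an `S`-group, `G / C`, `G / N` and `N / C` representable: `G / C ⟶ G / N` has every property
(stable under base change, fppf local on the target) that `N / C ⟶ S` has.
-/

set_option autoImplicit false
universe u
open CategoryTheory MonoidalCategory CartesianMonoidalCategory MonObj GrpObj AlgebraicGeometry Limits

namespace K19.FinQuot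

open Groth.Agent Groth.Agent.Sga3.H739.Fpqc Groth.Agent.RedSub.H650 QuotPts

variable {S : Scheme.{u}}

/-- A quotient map is a cover when the subgroup is quasi-compact. -/
theorem cov_of_isQuotient {G P Q : Over S} [GrpObj G] [GrpObj P] {i : P ⟶ G} {q : G ⟶ Q}
    (h : RedSub.IsQuotient i q) [QuasiCompact P.hom] : Cov q := by
  obtain ⟨h1, h2, h3, h4⟩ := h
  refine ⟨h2, h1, ?_⟩
  have := S0079.result.{u}
  have h5 : QuasiCompact (fst G P).left := by
    have : QuasiCompact (pullback.fst G.hom P.hom) := inferInstance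
    exact this
  exact MorphismProperty.of_isPullback_of_descendsAlong (P := @QuasiCompact)
    (Q := @Surjective ⊓ @Flat ⊓ @LocallyOfFinitePresentation) (h4.map (Over.forget S)) ⟨⟨h1, h2⟩, h3⟩ h5

section

variable {G C N : Over S} [GrpObj G] [GrpObj C] [GrpObj N] {c : C ⟶ G} {n : N ⟶ G} [IsMonHom n] [Mono n]
  {c' : C ⟶ N} (hc' : c' ≫ n = c) {W : Over S} {w : N ⟶ W} (hw : RedSub.IsQuotient c' w)
  {Q : Over S} {q : G ⟶ Q} (hq : RedSub.IsQuotient n q) {Q' : Over S} {q' : G ⟶ Q'} (hq' : RedSub.IsQuotient c q')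

include hc' hq hq'

/-- The projection `G / C ⟶ G / N`. -/
theorem exists_proj : ∃ π : Q' ⟶ Q, q' ≫ π = q :=
  exists_desc hq' q fun T a y => by
    have h := mul_comp hq a (y ≫ c')
    rw [Category.assoc, hc'] at h
    exact h

variable {π : Q' ⟶ Q} (hπ : q' ≫ π = q)

include hw hπ

/-- **The fibre product `G ×_{G/N} G/C` is `G × N/C`.** -/
theorem exists_isPullback [QuasiCompact C.hom] : ∃ ψ : G ⊗ W ⟶ Q', IsPullback (fst G W) ψ q π := by
  have hwc : Cov w := cov_of_isQuotient hw
  have hq'c : Cov q' := cov_of_isQuotient hq'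
  -- the two covers
  let m : G ⊗ N ⟶ G := (G ◁ n) ≫ μ[G]
  have hm : ∀ {T : Over S} (x : T ⟶ G ⊗ N), x ≫ m = (x ≫ fst G N) * ((x ≫ snd G N) ≫ n) := by
    intro T x
    have h1 : x = lift (x ≫ fst G N) (x ≫ snd G N) := by
      apply CartesianMonoidalCategory.hom_ext <;> simp
    conv_lhs => rw [h1]
    exact lift_comp n _ _
  have hpb : IsPullback (fst G N) m q q := hq.2.2.2
  have hP : IsPullback (pullback.fst q π) (pullback.snd q π) q π := IsPullback.of_hasPullback q π
  let b : G ⊗ N ⟶ pullback q π := hP.lift (fst G N) (m ≫ q') (by rw [Category.assoc, hπ, hpb.w])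
  have hb1 : b ≫ pullback.fst q π = fst G N := hP.lift_fst _ _ _
  have hb2 : b ≫ pullback.snd q π = m ≫ q' := hP.lift_snd _ _ _
  have hbc : Cov b := by
    have h2 : IsPullback m b q' (pullback.snd q π) := by
      refine IsPullback.of_bot (h₁₁ := m) (v₁₁ := b) (v₁₂ := q') (h₂₁ := pullback.snd q π)
        (v₂₁ := pullback.fst q π) (v₂₂ := π) (h₃₁ := q) ?_ hb2.symm hP.flip
      rw [hb1, hπ]
      exact hpb.flip
    exact hq'c.of_isPullback h2
  have hac : Cov (G ◁ w) := hwc.whiskerLeft G
  have hwN := ptQuot_of_isPullback hw.2.2.2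
  have hq'N := ptQuot_of_isPullback hq'.2.2.2
  obtain ⟨e, he⟩ := K395.Quo.exists_iso_of_cov (G ◁ w) b hac hbc (by
    intro T x y
    have e1 : x ≫ (G ◁ w) = y ≫ (G ◁ w) ↔
        x ≫ fst G N = y ≫ fst G N ∧ (x ≫ snd G N) ≫ w = (y ≫ snd G N) ≫ w := by
      constructor
      · intro h
        have h1 := congrArg (fun z => z ≫ fst G W) h
        have h2 := congrArg (fun z => z ≫ snd G W) h
        simp only [Category.assoc, whiskerLeft_fst, whiskerLeft_snd] at h1 h2
        exact ⟨h1, by rw [Category.assoc, Category.assoc]; exact h2⟩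
      · rintro ⟨h1, h2⟩
        rw [Category.assoc, Category.assoc] at h2
        apply CartesianMonoidalCategory.hom_ext
        · simp only [Category.assoc, whiskerLeft_fst]; exact h1
        · simp only [Category.assoc, whiskerLeft_snd]; exact h2
    have e2 : x ≫ b = y ≫ b ↔ x ≫ fst G N = y ≫ fst G N ∧ (x ≫ m) ≫ q' = (y ≫ m) ≫ q' := by
      constructor
      · intro h
        have h1 := congrArg (fun z => z ≫ pullback.fst q π) h
        have h2 := congrArg (fun z => z ≫ pullback.snd q π) h
        simp only [Category.assoc, hb1, hb2] at h1 h2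
        exact ⟨h1, by rw [Category.assoc, Category.assoc]; exact h2⟩
      · rintro ⟨h1, h2⟩
        rw [Category.assoc, Category.assoc] at h2
        apply hP.hom_ext
        · rw [Category.assoc, Category.assoc, hb1]; exact h1
        · rw [Category.assoc, Category.assoc, hb2]; exact h2
    rw [e1, e2]
    refine and_congr_right fun h => ?_
    rw [hm, hm, h, hwN, hq'N]
    constructor
    · rintro ⟨z, hz⟩
      refine ⟨z, ?_⟩
      rw [hz, MonObj.mul_comp, Category.assoc z, hc', _root_.mul_assoc]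
    · rintro ⟨z, hz⟩
      refine ⟨z, ?_⟩
      rw [← cancel_mono n, MonObj.mul_comp, Category.assoc z, hc']
      rw [_root_.mul_assoc] at hz
      exact mul_left_cancel hz)
  refine ⟨e.hom ≫ pullback.snd q π, ?_⟩
  refine IsPullback.of_iso hP e.symm (Iso.refl _) (Iso.refl _) (Iso.refl _) ?_ ?_ (by simp) (by simp)
  · rw [Iso.refl_hom, Category.comp_id, Iso.symm_hom, Iso.eq_inv_comp]
    refine hac.cancel ?_
    rw [← Category.assoc, he, hb1, whiskerLeft_fst]
  · rw [Iso.refl_hom, Category.comp_id, Iso.symm_hom, Iso.inv_hom_id_assoc]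

/-- **`G / C ⟶ G / N` inherits the properties of `N / C`.** -/
theorem prop_proj [QuasiCompact C.hom] (P : MorphismProperty Scheme.{u}) [P.IsStableUnderBaseChange]
    [P.DescendsAlong (@Surjective ⊓ @Flat ⊓ @LocallyOfFinitePresentation)] (hW : P W.hom) : P π.left := by
  obtain ⟨ψ, hψ⟩ := exists_isPullback hc' hw hq hq' hπ
  have h1 : P (fst G W).left := by
    have : P (pullback.fst G.hom W.hom) := MorphismProperty.pullback_fst _ _ hW
    exact this
  obtain ⟨h2, h3, h4, -⟩ := hq
  exact MorphismProperty.of_isPullback_of_descendsAlong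
    (Q := @Surjective ⊓ @Flat ⊓ @LocallyOfFinitePresentation) (hψ.map (Over.forget S)) ⟨⟨h2, h3⟩, h4⟩ h1

end

end K19.FinQuot
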