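import Groth.Agent.AlgGrp.K395.Quo
import Groth.Agent.AlgGrp.K395.Hom
import Groth.Agent.AlgGrp.K411.HomKit
import Groth.Agent.Sga3.H821.ExtConn
import Groth.Agent.S3030
import Groth.Agent.Localalg.GrpSchComp2
import Groth.Prelude.Def_Red2

/-!
# Borel subgroups and quotients by smooth connected solvable normal subgroups

`π : G ⟶ Q` a faithfully flat homomorphism of algebraic groups over a field, with kernel `R` smooth connected and
solvable.

* `isSolvableGrp_of_ext`, `isSolvableGrp_of_cov`, `isSolvableGrp_of_mono`: solvability of extensions, quotients and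
  subgroups;
* `isBorelOver_of_isPullback`: the inverse image of a Borel subgroup is a Borel subgroup;
* `exists_isBorelOver`: every Borel subgroup is the inverse image of a Borel subgroup (its image).
-/

set_option autoImplicit false
universe u
open CategoryTheory MonoidalCategory CartesianMonoidalCategory MonObj GrpObj AlgebraicGeometry Limits

namespace K19.BorelQuot

open Groth.Agent Groth.Agent.Sga3.H739.Fpqc K395

section Solv

variable {S : Scheme.{u}} {R G Q : Over S} [GrpObj R] [GrpObj G] [GrpObj Q]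

/-- the homomorphism on points -/
def ptsHom (q : G ⟶ Q) [IsMonHom q] (X : Over S) : (X ⟶ G) →* (X ⟶ Q) :=
  { toFun := fun x => x ≫ q
    map_one' := MonObj.one_comp q
    map_mul' := fun x y => MonObj.mul_comp x y q }

/-- A subgroup of a solvable group scheme is solvable. -/
theorem isSolvableGrp_of_mono (i : R ⟶ G) [IsMonHom i] [Mono i] (h : Red.IsSolvableGrp G) :
    Red.IsSolvableGrp R := by
  obtain ⟨n, hn⟩ := h
  refine ⟨n, fun X => ?_⟩
  have hf : Function.Injective (ptsHom i X) := fun x y hxy => (cancel_mono i).1 hxy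
  have h1 := map_derivedSeries_le_derivedSeries (ptsHom i X) n
  rw [hn X, le_bot_iff] at h1
  rwa [Subgroup.map_eq_bot_iff_of_injective _ hf] at h1

/-- A quotient of a solvable group scheme is solvable. -/
theorem isSolvableGrp_of_cov (q : G ⟶ Q) [IsMonHom q] (hq : Cov q) (h : Red.IsSolvableGrp G) :
    Red.IsSolvableGrp Q := by
  obtain ⟨n, hn⟩ := h
  refine ⟨n, fun X => (Subgroup.eq_bot_iff_forall _).2 fun x hx => ?_⟩
  obtain ⟨T', t, y, ht, hy, hyq⟩ := CovKit.exists_lift_derivedSeries q hq n X x hx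
  rw [hn T', Subgroup.mem_bot] at hy
  subst hy
  rw [MonObj.one_comp] at hyq
  exact CovKit.eq_one_of_cov ht x hyq.symm

/-- An extension of solvable group schemes is solvable. -/
theorem isSolvableGrp_of_ext (r : R ⟶ G) [IsMonHom r] (q : G ⟶ Q) [IsMonHom q]
    (hk : ∀ (X : Over S) (g : X ⟶ G), g ≫ q = 1 → ∃ x : X ⟶ R, x ≫ r = g) (hR : Red.IsSolvableGrp R)
    (hQ : Red.IsSolvableGrp Q) : Red.IsSolvableGrp G := by
  obtain ⟨n, hn⟩ := hR
  obtain ⟨m, hm⟩ := hQ
  refine ⟨m + n, fun X => ?_⟩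
  have key : ∀ j : ℕ, derivedSeries (X ⟶ G) (m + j) ≤ (derivedSeries (X ⟶ R) j).map (ptsHom r X) := by
    intro j
    induction j with
    | zero =>
      intro g hg
      have h1 := map_derivedSeries_le_derivedSeries (ptsHom q X) m
      rw [hm X, le_bot_iff] at h1
      have h2 : ptsHom q X g ∈ (derivedSeries (X ⟶ G) m).map (ptsHom q X) := ⟨g, hg, rfl⟩
      rw [h1, Subgroup.mem_bot] at h2
      obtain ⟨x, hx⟩ := hk X g h2
      exact ⟨x, by simp, hx⟩
    | succ j ih =>
      rw [← Nat.add_assoc, derivedSeries_succ, derivedSeries_succ, Subgroup.map_commutator]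
      exact Subgroup.commutator_mono ih ih
  have h := key n
  rw [hn X, Subgroup.map_bot, le_bot_iff] at h
  exact h

end Solv

section Pb

variable {S : Scheme.{u}} {G Q C : Over S} [GrpObj G] [GrpObj Q] [GrpObj C]

/-- The inverse image of a subgroup. -/
theorem exists_preimage (π : G ⟶ Q) [IsMonHom π] (c : C ⟶ Q) [IsMonHom c] [Mono c] :
    ∃ (P : Over S) (_ : GrpObj P) (p : P ⟶ G) (v : P ⟶ C), IsMonHom p ∧ IsMonHom v ∧ Mono p ∧
      IsPullback p v π c := by
  have hp : IsPullback (pullback.fst π c) (pullback.snd π c) π c := IsPullback.of_hasPullback π c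
  obtain ⟨inst, hm⟩ := Sga3C.SubGrp.exists_grpObj_of_mono (pullback.fst π c)
    (by
      let m : pullback π c ⊗ pullback π c ⟶ pullback π c := pullback.lift
        ((pullback.fst π c ⊗ₘ pullback.fst π c) ≫ μ[G]) ((pullback.snd π c ⊗ₘ pullback.snd π c) ≫ μ[C])
        (by
          rw [Category.assoc, Category.assoc, IsMonHom.mul_hom, IsMonHom.mul_hom,
            tensorHom_comp_tensorHom_assoc, tensorHom_comp_tensorHom_assoc, hp.w])
      exact ⟨m, pullback.lift_fst _ _ _⟩)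
    (by
      exact ⟨pullback.lift η[G] η[C] (by rw [IsMonHom.one_hom, IsMonHom.one_hom]),
        pullback.lift_fst _ _ _⟩)
    (by
      refine ⟨pullback.lift (pullback.fst π c ≫ ι[G]) (pullback.snd π c ≫ ι[C]) ?_,
        pullback.lift_fst _ _ _⟩
      rw [Category.assoc, Category.assoc, GrpObj.inv_hom, GrpObj.inv_hom, ← Category.assoc,
        hp.w, Category.assoc])
  refine ⟨pullback π c, inst, pullback.fst π c, pullback.snd π c, hm, ?_, inferInstance, hp⟩
  have : IsMonHom (pullback.snd π c ≫ c) := by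
    rw [← hp.w]
    infer_instance
  exact Sga3C.SubGrp.isMonHom_of_comp_mono (pullback.snd π c) c

omit [GrpObj C] in
/-- The kernel of the restriction to an inverse image. -/
theorem exists_kernel_lift {R P : Over S} [GrpObj C] {r : R ⟶ G} {π : G ⟶ Q} (hr : AlgGrp.IsKernel r π)
    {p : P ⟶ G} {v : P ⟶ C} {c : C ⟶ Q} [IsMonHom c] (h : IsPullback p v π c) :
    ∃ ρ : R ⟶ P, ρ ≫ p = r ∧ AlgGrp.IsKernel ρ v := by
  have h1 : η[C] ≫ c = η[Q] := IsMonHom.one_hom c
  refine ⟨h.lift r (toUnit R ≫ η[C]) (by rw [Category.assoc, h1]; exact hr.w), h.lift_fst _ _ _, ?_⟩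
  refine IsPullback.of_right ?_ (h.lift_snd _ _ _) h
  rw [h.lift_fst, h1]
  exact hr

end Pb

section Field

variable {K : Type u} [Field K]

/-- A closed subgroup of a quasi-compact group, which is an extension of smooth connected solvable groups. -/
theorem ext_facts {R G Q B C : Over (Spec (CommRingCat.of K))} [GrpObj R] [GrpObj G] [GrpObj Q] [GrpObj B]
    [GrpObj C] [QuasiCompact G.hom] (π : G ⟶ Q) [IsMonHom π] (hπ : Cov π) (r : R ⟶ G)
    (hr : AlgGrp.IsKernel r π) [IsMonHom r] [Smooth R.hom] [ConnectedSpace R.left] (hRs : Red.IsSolvableGrp R)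
    (c : C ⟶ Q) [IsMonHom c] [IsClosedImmersion c.left] [Smooth C.hom] [ConnectedSpace C.left]
    (hCs : Red.IsSolvableGrp C) (b : B ⟶ G) [IsMonHom b] (v : B ⟶ C) [IsMonHom v] (h : IsPullback b v π c) :
    IsClosedImmersion b.left ∧ Smooth B.hom ∧ ConnectedSpace B.left ∧ Red.IsSolvableGrp B ∧ Cov v := by
  have hb : IsClosedImmersion b.left := by
    exact MorphismProperty.of_isPullback (P := @IsClosedImmersion) (h.map (Over.forget _)).flip
      (inferInstanceAs (IsClosedImmersion c.left))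
  have hbm : Mono b := Books.AlgPtsGrp.mono_of_isClosedImmersion b
  have hBqc : QuasiCompact B.hom := by rw [← Over.w b]; infer_instance
  have hv : Cov v := hπ.of_isPullback h
  have hCs' : IsSeparated C.hom := Groth.Agent.Localalg.GrpSchComp2.isSeparated_hom C
  obtain ⟨ρ, hρ, hk⟩ := exists_kernel_lift hr h
  have hρm : IsMonHom ρ := by
    have : IsMonHom (ρ ≫ b) := by rw [hρ]; infer_instance
    exact Sga3C.SubGrp.isMonHom_of_comp_mono ρ b
  have h1 := hv.flat
  have h2 := hv.surj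
  obtain ⟨-, -, h3, h4⟩ := Sga3.H821.ExtConn.smooth_connected ρ v hk
  exact ⟨hb, h3, h4, isSolvableGrp_of_ext ρ v (fun X g hg => Pts.exists_of_comp_eq_one hk g hg) hRs hCs, hv⟩

/-- The image of a smooth connected solvable closed subgroup. -/
theorem image_facts {G Q B : Over (Spec (CommRingCat.of K))} [GrpObj G] [GrpObj Q] [GrpObj B]
    [QuasiCompact G.hom] [LocallyOfFiniteType Q.hom] (π : G ⟶ Q) [IsMonHom π]
    (b : B ⟶ G) [IsMonHom b] [IsClosedImmersion b.left] [Smooth B.hom] [ConnectedSpace B.left]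
    (hBs : Red.IsSolvableGrp B) :
    ∃ (C : Over (Spec (CommRingCat.of K))) (_ : GrpObj C) (v : B ⟶ C) (c : C ⟶ Q), IsMonHom v ∧ IsMonHom c ∧
      v ≫ c = b ≫ π ∧ Cov v ∧ IsClosedImmersion c.left ∧ Smooth C.hom ∧ ConnectedSpace C.left ∧
      Red.IsSolvableGrp C := by
  have hBqc : QuasiCompact B.hom := by rw [← Over.w b]; infer_instance
  obtain ⟨C, gC, v, c, h1, h2, h3, h4, h5⟩ := Hom.exists_image (b ≫ π)
  have h6 := h4.flat
  have h7 := h4.surj
  have h8 := h4.qc
  refine ⟨C, gC, v, c, h1, h2, h3, h4, h5, ?_, ?_, isSolvableGrp_of_cov v h4 hBs⟩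
  · have hl : LocallyOfFiniteType C.hom := by rw [← Over.w c]; infer_instance
    exact AlgGrp.K411.HomKit.smooth_of_flat_surjective v
  · exact v.left.surjective.connectedSpace v.left.continuous

variable {R G Q : Over (Spec (CommRingCat.of K))} [GrpObj R] [GrpObj G] [GrpObj Q] [LocallyOfFiniteType G.hom]
  [QuasiCompact G.hom] [LocallyOfFiniteType Q.hom] (π : G ⟶ Q) [IsMonHom π] (hπ : Cov π) (r : R ⟶ G)
  (hr : AlgGrp.IsKernel r π) [IsMonHom r] [Smooth R.hom] [ConnectedSpace R.left] (hRs : Red.IsSolvableGrp R)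

include hπ hr hRs

/-- **The inverse image of a Borel subgroup is a Borel subgroup.** -/
theorem isBorelOver_of_isPullback {B C : Over (Spec (CommRingCat.of K))} [GrpObj B] [GrpObj C] (c : C ⟶ Q)
    (hc : Red.IsBorelOver K c) (b : B ⟶ G) [IsMonHom b] (v : B ⟶ C) [IsMonHom v] (h : IsPullback b v π c) :
    Red.IsBorelOver K b := by
  obtain ⟨c1, c2, c3, c4, c5, c6⟩ := hc
  have hcm : Mono c := Books.AlgPtsGrp.mono_of_isClosedImmersion c
  obtain ⟨h1, h2, h3, h4, h5⟩ := ext_facts π hπ r hr hRs c c5 b v h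
  have hbm : Mono b := Books.AlgPtsGrp.mono_of_isClosedImmersion b
  refine ⟨inferInstance, h1, h2, h3, h4, ?_⟩
  intro B' _ i' _ f hi' hB' hB'c hB's hf
  have hi'm : Mono i' := Books.AlgPtsGrp.mono_of_isClosedImmersion i'
  obtain ⟨C', gC', v', c', d1, d2, d3, d4, d5, d6, d7, d8⟩ := image_facts π i' hB's
  have hc'm : Mono c' := Books.AlgPtsGrp.mono_of_isClosedImmersion c'
  obtain ⟨φ, hφ⟩ := h5.exists_lift_of_mono c' c (f ≫ v') (by
    rw [Category.assoc, d3, ← Category.assoc, hf, h.w])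
  have hφi : IsIso φ := c6 C' c' φ d5 d6 d7 d8 hφ
  have h6 : i' ≫ π = (v' ≫ inv φ) ≫ c := by
    rw [← d3, Category.assoc, IsIso.eq_inv_comp φ |>.2 hφ |>.symm]
  refine ⟨h.lift i' (v' ≫ inv φ) h6, ?_, ?_⟩
  · rw [← cancel_mono b, Category.assoc, h.lift_fst, hf, Category.id_comp]
  · rw [← cancel_mono i', Category.assoc, hf, h.lift_fst, Category.id_comp]

/-- **Every Borel subgroup is the inverse image of its image, which is a Borel subgroup.** -/
theorem exists_isBorelOver {B : Over (Spec (CommRingCat.of K))} [GrpObj B] (b : B ⟶ G)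
    (hb : Red.IsBorelOver K b) :
    ∃ (C : Over (Spec (CommRingCat.of K))) (_ : GrpObj C) (c : C ⟶ Q) (v : B ⟶ C), Red.IsBorelOver K c ∧
      IsMonHom v ∧ Cov v ∧ IsPullback b v π c := by
  obtain ⟨b1, b2, b3, b4, b5, b6⟩ := hb
  have hbm : Mono b := Books.AlgPtsGrp.mono_of_isClosedImmersion b
  obtain ⟨C, gC, v, c, d1, d2, d3, d4, d5, d6, d7, d8⟩ := image_facts π b b5
  have hcm : Mono c := Books.AlgPtsGrp.mono_of_isClosedImmersion c
  -- the inverse image of `C`
  obtain ⟨P, gP, p, w, e1, e2, e3, e4⟩ := exists_preimage π c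
  obtain ⟨f1, f2, f3, f4, f5⟩ := ext_facts π hπ r hr hRs c d8 p w e4
  have hφi : IsIso (e4.lift b v d3.symm) := b6 P p _ f1 f2 f3 f4 (e4.lift_fst _ _ _)
  have hpb : IsPullback b v π c :=
    IsPullback.of_iso e4 (asIso (e4.lift b v d3.symm)).symm (Iso.refl _) (Iso.refl _) (Iso.refl _)
      (by simp) (by simp) (by simp) (by simp)
  refine ⟨C, gC, c, v, ⟨d2, d5, d6, d7, d8, ?_⟩, d1, d4, hpb⟩
  intro C' _ c' _ f hc' hC' hC'c hC's hf
  have hc'm : Mono c' := Books.AlgPtsGrp.mono_of_isClosedImmersion c'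
  obtain ⟨P', gP', p', w', k1, k2, k3, k4⟩ := exists_preimage π c'
  obtain ⟨l1, l2, l3, l4, l5⟩ := ext_facts π hπ r hr hRs c' hC's p' w' k4
  have h6 : b ≫ π = (v ≫ f) ≫ c' := by rw [Category.assoc, hf, d3]
  have hψi : IsIso (k4.lift b (v ≫ f) h6) := b6 P' p' _ l1 l2 l3 l4 (k4.lift_fst _ _ _)
  have h7 : Cov (v ≫ f) := by
    rw [← k4.lift_snd b (v ≫ f) h6]
    exact (Cov.of_isIso _).comp l5
  -- `f` is a monomorphism and a cover
  have hfm : Mono f := by
    have : Mono (f ≫ c') := by rw [hf]; infer_instance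
    exact mono_of_mono f c'
  obtain ⟨g, hg⟩ := h7.exists_lift_of_mono f (𝟙 C') v (by rw [Category.comp_id])
  exact ⟨g, by rw [← cancel_mono f, Category.assoc, hg, Category.comp_id, Category.id_comp], hg⟩

end Field

section Bij

variable {K : Type u} [Field K]

/-- **Reduction to a quotient.** `u : G ⟶ G'` a faithfully flat homomorphism whose kernel is contained in the smooth
connected solvable normal subgroup `R`: there is a common quotient `Q = G / R = G' / u(R)`. -/
theorem exists_common_quotient {G G' R : Over (Spec (CommRingCat.of K))} [GrpObj G] [GrpObj G'] [GrpObj R]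
    [Smooth G.hom] [QuasiCompact G.hom] [Smooth G'.hom] [QuasiCompact G'.hom] (u : G ⟶ G') [IsMonHom u] (hu : Cov u)
    (r : R ⟶ G) [IsMonHom r] [IsClosedImmersion r.left] [Smooth R.hom] [ConnectedSpace R.left]
    (hRs : Red.IsSolvableGrp R) (hRn : AlgGrp.IsNormalHom r)
    (hker : ∀ (X : Over (Spec (CommRingCat.of K))) (g : X ⟶ G), g ≫ u = 1 → ∃ x : X ⟶ R, x ≫ r = g) :
    ∃ (R' Q : Over (Spec (CommRingCat.of K))) (_ : GrpObj R') (_ : GrpObj Q) (r' : R' ⟶ G') (q : G' ⟶ Q),
      IsMonHom r' ∧ Smooth R'.hom ∧ ConnectedSpace R'.left ∧ Red.IsSolvableGrp R' ∧ IsMonHom q ∧ Cov q ∧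
      AlgGrp.IsKernel r' q ∧ LocallyOfFiniteType Q.hom ∧ AlgGrp.IsKernel r (u ≫ q) := by
  have hrm : Mono r := Books.AlgPtsGrp.mono_of_isClosedImmersion r
  obtain ⟨R', gR', p, r', h1, h2, h3, h4, h5, h6, h7, h8⟩ := image_facts u r hRs
  have hr'm : Mono r' := Books.AlgPtsGrp.mono_of_isClosedImmersion r'
  have hN : AlgGrp.IsNormalHom r' := by
    intro T g n
    obtain ⟨T₁, t₁, g₁, ht₁, hg₁⟩ := hu.exists_local g
    obtain ⟨T₂, t₂, n₂, ht₂, hn₂⟩ := h4.exists_local n
    obtain ⟨T₃, s₁, s₂, hs, hc, -⟩ := CovKit.exists_common ht₁ ht₂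
    obtain ⟨n', hn'⟩ := hRn T₃ (s₁ ≫ g₁) (s₂ ≫ n₂)
    obtain ⟨l, hl⟩ := hc.exists_lift_of_mono r' (g * (n ≫ r') * g⁻¹) (n' ≫ p) (by
      have e1 : (s₁ ≫ t₁) ≫ g = (s₁ ≫ g₁) ≫ u := by rw [Category.assoc, ← hg₁, Category.assoc]
      have e2 : (s₁ ≫ t₁) ≫ n = (s₂ ≫ n₂) ≫ p := by rw [hs, Category.assoc, ← hn₂, Category.assoc]
      rw [MonObj.comp_mul, MonObj.comp_mul, GrpObj.comp_inv, ← Category.assoc (s₁ ≫ t₁) n, e1, e2,
        Category.assoc (s₂ ≫ n₂), h3, ← Category.assoc (s₂ ≫ n₂), ← GrpObj.inv_comp, ← MonObj.mul_comp,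
        ← MonObj.mul_comp, hn', Category.assoc, h3, Category.assoc])
    exact ⟨l, hl.symm⟩
  have hr'qc : QuasiCompact r'.left := inferInstance
  obtain ⟨Q, gQ, q, q1, q2, q3, q4, q5, q6, q7, q8⟩ := S3030.result K R' G' r' hN
  have hQ := q8 inferInstance
  have hq : Cov q := CovKit.cov_of q
  refine ⟨R', Q, gR', gQ, r', q, h2, h6, h7, h8, q1, hq, q5, inferInstance, ?_⟩
  refine Pts.isKernel_of_pts (fun T n => ?_) (fun T x hx => ?_)
  · rw [Category.assoc, ← Category.assoc r, ← h3, Category.assoc p, ← Category.assoc n, ← Category.assoc]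
    exact Pts.comp_eq_one q5 (n ≫ p)
  · obtain ⟨y, hy⟩ := Pts.exists_of_comp_eq_one q5 (x ≫ u) (by rw [Category.assoc, hx])
    obtain ⟨T', t, z, ht, hz⟩ := h4.exists_local y
    obtain ⟨w, hw⟩ := hker T' ((t ≫ x) * (z ≫ r)⁻¹) (by
      rw [MonObj.mul_comp, GrpObj.inv_comp, Category.assoc, Category.assoc, ← h3, ← Category.assoc z, hz,
        Category.assoc, hy, mul_inv_cancel])
    exact ht.exists_lift_of_mono r x (w * z) (by
      rw [MonObj.mul_comp, hw, inv_mul_cancel_right])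

variable {G G' R : Over (Spec (CommRingCat.of K))} [GrpObj G] [GrpObj G'] [GrpObj R]
    [Smooth G.hom] [QuasiCompact G.hom] [Smooth G'.hom] [QuasiCompact G'.hom] (u : G ⟶ G') [IsMonHom u] (hu : Cov u)
    (r : R ⟶ G) [IsMonHom r] [IsClosedImmersion r.left] [Smooth R.hom] [ConnectedSpace R.left]
    (hRs : Red.IsSolvableGrp R) (hRn : AlgGrp.IsNormalHom r)
    (hker : ∀ (X : Over (Spec (CommRingCat.of K))) (g : X ⟶ G), g ≫ u = 1 → ∃ x : X ⟶ R, x ≫ r = g)

include hu hRs hRn hker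

/-- The inverse image of a Borel subgroup is a Borel subgroup. -/
theorem borel_preimage {B B' : Over (Spec (CommRingCat.of K))} [GrpObj B] [GrpObj B'] (b' : B' ⟶ G')
    (hb' : Red.IsBorelOver K b') (b : B ⟶ G) [IsMonHom b] (v : B ⟶ B') [IsMonHom v] (h : IsPullback b v u b') :
    Red.IsBorelOver K b := by
  obtain ⟨R', Q, gR', gQ, r', q, h1, h2, h3, h4, h5, h6, h7, h8, h9⟩ :=
    exists_common_quotient u hu r hRs hRn hker
  obtain ⟨C, gC, c, w, k1, k2, k3, k4⟩ := exists_isBorelOver q h6 r' h7 h4 b' hb'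
  exact isBorelOver_of_isPullback (u ≫ q) (hu.comp h6) r h9 hRs c k1 b (v ≫ w) (h.paste_vert k4)

/-- Every Borel subgroup is the inverse image of a Borel subgroup, its image. -/
theorem exists_borel_image {B : Over (Spec (CommRingCat.of K))} [GrpObj B] (b : B ⟶ G)
    (hb : Red.IsBorelOver K b) :
    ∃ (B' : Over (Spec (CommRingCat.of K))) (_ : GrpObj B') (b' : B' ⟶ G') (v : B ⟶ B'),
      Red.IsBorelOver K b' ∧ IsMonHom v ∧ Cov v ∧ IsPullback b v u b' := by
  obtain ⟨R', Q, gR', gQ, r', q, h1, h2, h3, h4, h5, h6, h7, h8, h9⟩ :=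
    exists_common_quotient u hu r hRs hRn hker
  obtain ⟨C, gC, c, w, k1, k2, k3, k4⟩ := exists_isBorelOver (u ≫ q) (hu.comp h6) r h9 hRs b hb
  have hcm : Mono c := by
    have := k1.2.1
    exact Books.AlgPtsGrp.mono_of_isClosedImmersion c
  have hcmh : IsMonHom c := k1.1
  have hbmh : IsMonHom b := hb.1
  obtain ⟨P, gP, p, x, e1, e2, e3, e4⟩ := exists_preimage q c
  have h10 : (b ≫ u) ≫ q = w ≫ c := by rw [Category.assoc]; exact k4.w
  have hv := e4.lift_fst (b ≫ u) w h10
  have hv2 := e4.lift_snd (b ≫ u) w h10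
  have hpb : IsPullback b (e4.lift (b ≫ u) w h10) u p := by
    refine IsPullback.of_bot ?_ hv.symm e4
    rw [hv2]
    exact k4
  have hvm : IsMonHom (e4.lift (b ≫ u) w h10) := by
    have : IsMonHom (e4.lift (b ≫ u) w h10 ≫ p) := by rw [hv]; infer_instance
    exact Sga3C.SubGrp.isMonHom_of_comp_mono _ p
  exact ⟨P, gP, p, _, isBorelOver_of_isPullback q h6 r' h7 h4 c k1 p x e4, hvm, hu.of_isPullback hpb, hpb⟩

end Bij

end K19.BorelQuot
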