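import Groth.Agent.Sga3.H831.CartFacts
import Groth.Agent.Sga3.H784.MaxImg
import Groth.Agent.AlgGrp.K395.Hom
import Groth.Agent.SGA3x.K19.BorelQuot

/-!
# Images of centralizers of maximal tori

`K` algebraically closed, `v : G ⟶ H` a surjective homomorphism of algebraic groups (not necessarily affine).

* `surjective_of_cosets`: a subgroup of finite index of an irreducible algebraic group is everything;
* `surjective_centralizer`: the centralizer of a maximal torus of `G` surjects onto the centralizer of its image.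
-/

set_option autoImplicit false
universe u
open CategoryTheory MonoidalCategory CartesianMonoidalCategory MonObj GrpObj AlgebraicGeometry Limits

namespace K19.ImgCart

open Groth.Agent Groth.Agent.Sga3.H739.Fpqc K395 Groth.Agent.Books.AlgPts Groth.Agent.Books.AlgPtsGrp
open Groth.Agent.Sga3.H784

variable {K : Type u} [Field K]

/-- Left translation by a rational point. -/
noncomputable def trIso {S : Scheme.{u}} {D : Over S} [GrpObj D] (h : 𝟙_ (Over S) ⟶ D) : D ≅ D where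
  hom := (toUnit D ≫ h) * 𝟙 D
  inv := (toUnit D ≫ h)⁻¹ * 𝟙 D
  hom_inv_id := by
    rw [MonObj.comp_mul, GrpObj.comp_inv, comp_toUnit_assoc, Category.comp_id, inv_mul_cancel_left]
  inv_hom_id := by
    rw [MonObj.comp_mul, comp_toUnit_assoc, Category.comp_id, mul_inv_cancel_left]

lemma comp_trIso {S : Scheme.{u}} {D X : Over S} [GrpObj D] (h : 𝟙_ (Over S) ⟶ D) (x : X ⟶ D) :
    x ≫ (trIso h).hom = (toUnit X ≫ h) * x := by
  change x ≫ ((toUnit D ≫ h) * 𝟙 D) = _
  rw [MonObj.comp_mul, comp_toUnit_assoc, Category.comp_id]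

variable [IsAlgClosed K]

/-- A homomorphism to an irreducible group whose image on rational points has finite index is surjective. -/
theorem surjective_of_cosets {C D : Over (Spec (CommRingCat.of K))} [GrpObj C] [GrpObj D]
    [LocallyOfFiniteType C.hom] [QuasiCompact C.hom] [LocallyOfFiniteType D.hom] [IrreducibleSpace D.left]
    (f : C ⟶ D) [IsMonHom f] (F : Set (𝟙_ (Over (Spec (CommRingCat.of K))) ⟶ D)) (hF : F.Finite)
    (h : ∀ d : 𝟙_ (Over (Spec (CommRingCat.of K))) ⟶ D, ∃ a ∈ F,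
      ∃ x : 𝟙_ (Over (Spec (CommRingCat.of K))) ⟶ C, d = a * (x ≫ f)) : Surjective f.left := by
  obtain ⟨I, _, p, j, h1, h2, h3, h4, h5⟩ := Hom.exists_image f
  have hps := h4.surj
  suffices hj : Surjective j.left by
    rw [← h3, Over.comp_left]
    infer_instance
  have hcl : ∀ a : 𝟙_ (Over (Spec (CommRingCat.of K))) ⟶ D, IsClosed (Set.range (j ≫ (trIso a).hom).left) := by
    intro a
    have : IsIso (trIso a).hom.left := inferInstanceAs (IsIso ((Over.forget _).map (trIso a).hom))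
    have : IsClosedImmersion (j ≫ (trIso a).hom).left := by
      rw [Over.comp_left]; infer_instance
    exact (j ≫ (trIso a).hom).left.isClosedEmbedding.isClosed_range
  have hcov : (Set.univ : Set D.left) ⊆ ⋃ a ∈ F, Set.range (j ≫ (trIso a).hom).left := by
    refine subset_of_forall_pt isClosed_univ.isLocallyClosed (hF.isClosed_biUnion fun a _ => hcl a) fun d _ => ?_
    obtain ⟨a, ha, x, hx⟩ := h d
    refine Set.mem_biUnion ha ⟨pt (x ≫ p), ?_⟩
    rw [← pt_comp, ← Category.assoc, Category.assoc x, h3, comp_trIso, hx, toUnit_unique (toUnit _) (𝟙 _),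
      Category.id_comp]
  obtain ⟨a, ha, hau⟩ : ∃ a ∈ F, (Set.univ : Set D.left) ⊆ Set.range (j ≫ (trIso a).hom).left := by
    classical
    obtain ⟨z, hz, hz'⟩ := (isIrreducible_iff_sUnion_isClosed.1 (IrreducibleSpace.isIrreducible_univ D.left))
      (hF.toFinset.image fun a => Set.range (j ≫ (trIso a).hom).left) (by
        intro z hz
        obtain ⟨a, -, rfl⟩ := Finset.mem_image.1 hz
        exact hcl a) (by
        intro x hx
        obtain ⟨a, ha, hx⟩ := Set.mem_iUnion₂.1 (hcov hx)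
        exact Set.mem_sUnion.2 ⟨_, Finset.mem_coe.2 (Finset.mem_image.2 ⟨a, hF.mem_toFinset.2 ha, rfl⟩), hx⟩)
    obtain ⟨a, ha, rfl⟩ := Finset.mem_image.1 hz
    exact ⟨a, hF.mem_toFinset.1 ha, hz'⟩
  have h7 : Surjective (j ≫ (trIso a).hom).left := ⟨fun y => hau trivial⟩
  have h8 : j.left = (j ≫ (trIso a).hom).left ≫ (trIso a).inv.left := by
    rw [← Over.comp_left, Category.assoc, Iso.hom_inv_id, Category.comp_id]
  have : IsIso (trIso a).inv.left := inferInstanceAs (IsIso ((Over.forget _).map (trIso a).inv))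
  rw [h8]
  infer_instance

section

variable {G H T T' : Over (Spec (CommRingCat.of K))} [GrpObj G] [GrpObj H] [GrpObj T] [GrpObj T']
  [LocallyOfFiniteType G.hom] [LocallyOfFiniteType H.hom] [LocallyOfFiniteType T'.hom]
  (v : G ⟶ H) [IsMonHom v] [Surjective v.left] (i : T ⟶ G) (hT : Red.IsMaximalTorus i)
  (t' : T' ⟶ H) [IsMonHom t'] [Mono t'] (w : T ⟶ T') [IsMonHom w] [Surjective w.left] (hw : w ≫ t' = i ≫ v)

include hT hw

/-- A rational point of `H` which centralizes the image of the maximal torus `T` of `G` is the image of a rational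
point of `G` which normalizes `T`. -/
theorem exists_norm (h : 𝟙_ (Over (Spec (CommRingCat.of K))) ⟶ H)
    (hh : ∀ (X : Over (Spec (CommRingCat.of K))) (t : X ⟶ T'),
      (toUnit X ≫ h) * (t ≫ t') = (t ≫ t') * (toUnit X ≫ h)) :
    ∃ (g : 𝟙_ (Over (Spec (CommRingCat.of K))) ⟶ G), g ≫ v = h ∧ SGA3x.ConjBy i i g := by
  have hi1 := hT.1
  have hi2 := hT.2.1
  obtain ⟨g, hg⟩ := exists_comp_eq_of_pt_mem_range v h (v.left.surjective _)
  -- the inverse image of `T'`
  obtain ⟨M, gM, p, x, e1, e2, e3, e4⟩ := BorelQuot.exists_preimage v t'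
  have ht'l : LocallyOfFiniteType t'.left := by
    have : LocallyOfFiniteType (t'.left ≫ H.hom) := by rw [Over.w]; infer_instance
    exact locallyOfFiniteType_of_comp t'.left H.hom
  have hpl : LocallyOfFiniteType p.left :=
    MorphismProperty.of_isPullback (P := @LocallyOfFiniteType) (e4.map (Over.forget _)).flip ht'l
  have hMl : LocallyOfFiniteType M.hom := by rw [← Over.w p]; infer_instance
  -- two maximal tori
  have h1 : i ≫ v = w ≫ t' := hw.symm
  have h2 : (i ≫ (Conj.conjIso g).hom) ≫ v = w ≫ t' := by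
    rw [Conj.conjIso_hom_comp, hg, Conj.comp_conjIso_hom, ← hw]
    have := hh T w
    rw [this, mul_inv_cancel_right]
  have hj1 : Red.IsMaximalTorus (e4.lift i w h1) :=
    Sga3.H831.CartTors.isMaximalTorus_of_comp p _ (by rw [e4.lift_fst]; exact hT)
  have hj2 : Red.IsMaximalTorus (e4.lift (i ≫ (Conj.conjIso g).hom) w h2) :=
    Sga3.H831.CartTors.isMaximalTorus_of_comp p _ (by
      rw [e4.lift_fst]
      exact Conj.isMaximalTorus_conj i hT g)
  have hTl : LocallyOfFiniteType T.hom := by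
    have := Commute.smooth_of_isTorus hT.2.2.1
    infer_instance
  obtain ⟨m, φ, hm⟩ := NAMain.exists_conjBy _ _ hj1 hj2
  have hm' : (toUnit T ≫ m ≫ p) * i * (toUnit T ≫ m ≫ p)⁻¹ =
      φ.hom ≫ ((toUnit T ≫ g) * i * (toUnit T ≫ g)⁻¹) := by
    have h3 := congrArg (fun q => q ≫ p) hm
    simp only [MonObj.mul_comp, GrpObj.inv_comp, Category.assoc, e4.lift_fst] at h3
    rw [Conj.comp_conjIso_hom] at h3
    exact h3
  obtain ⟨t₀, ht₀⟩ := exists_comp_eq_of_pt_mem_range w (m ≫ x) (w.left.surjective _)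
  let n : 𝟙_ (Over (Spec (CommRingCat.of K))) ⟶ G := (m ≫ p) * (t₀ ≫ i)⁻¹
  have hn : n ≫ v = 1 := by
    rw [MonObj.mul_comp, GrpObj.inv_comp, Category.assoc, e4.w, ← Category.assoc, ← ht₀, Category.assoc,
      hw, Category.assoc, mul_inv_cancel]
  have hcomm : (toUnit T ≫ t₀ ≫ i) * i = i * (toUnit T ≫ t₀ ≫ i) := by
    have h3 := Sga3.H831.TorsReg.mul_comm_of_isTorus hT.2.2.1 (toUnit T ≫ t₀) (𝟙 T)
    have h4 := congrArg (fun q => q ≫ i) h3
    simpa only [MonObj.mul_comp, Category.assoc, Category.id_comp] using h4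
  have hn' : (toUnit T ≫ n) * i * (toUnit T ≫ n)⁻¹ = φ.hom ≫ ((toUnit T ≫ g) * i * (toUnit T ≫ g)⁻¹) := by
    rw [← hm']
    change (toUnit T ≫ ((m ≫ p) * (t₀ ≫ i)⁻¹)) * i * (toUnit T ≫ ((m ≫ p) * (t₀ ≫ i)⁻¹))⁻¹ = _
    rw [MonObj.comp_mul, GrpObj.comp_inv]
    generalize toUnit T ≫ m ≫ p = a at *
    generalize toUnit T ≫ t₀ ≫ i = b at *
    calc a * b⁻¹ * i * (a * b⁻¹)⁻¹ = a * b⁻¹ * (i * b) * a⁻¹ := by group
      _ = a * b⁻¹ * (b * i) * a⁻¹ := by rw [hcomm]
      _ = a * i * a⁻¹ := by group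
  refine ⟨n⁻¹ * g, ?_, φ.symm, ?_⟩
  · rw [MonObj.mul_comp, GrpObj.inv_comp, hn, hg, inv_one, _root_.one_mul]
  · have h5 := congrArg (fun q => φ.inv ≫ q) hn'
    simp only [MonObj.comp_mul, GrpObj.comp_inv, Iso.inv_hom_id_assoc, comp_toUnit_assoc] at h5 ⊢
    rw [Iso.symm_hom]
    generalize toUnit T ≫ n = a at *
    generalize toUnit T ≫ g = b at *
    calc (a⁻¹ * b) * i * (a⁻¹ * b)⁻¹ = a⁻¹ * (b * i * b⁻¹) * a := by group
      _ = a⁻¹ * (a * (φ.inv ≫ i) * a⁻¹) * a := by rw [h5]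
      _ = _ := by group

omit [IsAlgClosed K] hT hw in
lemma exists_prime : ∃ l : ℕ, l.Prime ∧ (l : K) ≠ 0 := by
  by_cases h : ((2 : ℕ) : K) = 0
  · refine ⟨3, Nat.prime_three, fun h3 => ?_⟩
    have : ((3 : ℕ) : K) = ((2 : ℕ) : K) + 1 := by push_cast; norm_num
    rw [this, h, zero_add] at h3
    exact one_ne_zero h3
  · exact ⟨2, Nat.prime_two, h⟩

/-- **The centralizer of a maximal torus surjects onto the centralizer of the image of the maximal torus.** -/
theorem surjective_centralizer [Smooth G.hom] [QuasiCompact G.hom] {C D : Over (Spec (CommRingCat.of K))}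
    [GrpObj C] [GrpObj D] [LocallyOfFiniteType C.hom] [QuasiCompact C.hom] [LocallyOfFiniteType D.hom]
    [IrreducibleSpace D.left] (c : C ⟶ G)
    (hC : Red.IsCentralizerOf i c) (d : D ⟶ H) (hD : Red.IsCentralizerOf t' d) (f : C ⟶ D) [IsMonHom f]
    (hf : f ≫ d = c ≫ v) : Surjective f.left := by
  classical
  have hi1 := hT.1
  have hi2 := hT.2.1
  have hd1 := hD.1
  have hd2 := hD.2.1
  obtain ⟨l, hl, hl0⟩ := exists_prime (K := K)
  obtain ⟨Γ, _, _, φ, ⟨k, hk⟩, hφ⟩ := Sga3.H831.TorsReg.exists_regular i hT.2.2.1 hl hl0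
  obtain ⟨Γ', _, _, φ', -, hφ'⟩ := Sga3.H831.TorsReg.exists_tors hT.2.2.1 hl k
  let E : Set (𝟙_ (Over (Spec (CommRingCat.of K))) ⟶ G) := Set.range (fun γ' => φ' γ' ≫ i)
  have hE : E.Finite := Set.finite_range _
  have key : ∀ a : 𝟙_ (Over (Spec (CommRingCat.of K))) ⟶ D,
      ∃ g : 𝟙_ (Over (Spec (CommRingCat.of K))) ⟶ G, g ≫ v = a ≫ d ∧ SGA3x.ConjBy i i g := fun a =>
    exists_norm v i hT t' w hw (a ≫ d) (fun X t => (hD.2.2 _ (a ≫ d)).1 ⟨a, rfl⟩ X (toUnit X) t)
  choose g hg hconj using key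
  let Ψ : (𝟙_ (Over (Spec (CommRingCat.of K))) ⟶ D) → (Γ → (𝟙_ (Over (Spec (CommRingCat.of K))) ⟶ G)) :=
    fun a γ => g a * (φ γ ≫ i) * (g a)⁻¹
  have hΨ : ∀ a, Ψ a ∈ Set.pi Set.univ (fun _ : Γ => E) := by
    intro a γ _
    obtain ⟨θ, hθ⟩ := hconj a
    have h1 := Sga3.H831.CartConj.conj_comp hθ (φ γ)
    rw [toUnit_unique (toUnit _) (𝟙 _), Category.id_comp] at h1
    have h2 : (φ γ ≫ θ.hom) ^ (l ^ k) = 1 := by
      rw [← cancel_mono i]
      have h3 : ((φ γ ≫ θ.hom) ^ (l ^ k)) ≫ i = ((φ γ ≫ θ.hom) ≫ i) ^ (l ^ k) :=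
        map_pow (BorelQuot.ptsHom i _) (φ γ ≫ θ.hom) (l ^ k)
      have h4 : ((φ γ) ^ (l ^ k)) ≫ i = (φ γ ≫ i) ^ (l ^ k) :=
        map_pow (BorelQuot.ptsHom i _) (φ γ) (l ^ k)
      rw [h3, ← h1, MonObj.one_comp, conj_pow, ← h4, ← map_pow, ← hk, pow_card_eq_one', map_one,
        MonObj.one_comp, _root_.mul_one, mul_inv_cancel]
    obtain ⟨γ', hγ'⟩ := (hφ' _).1 h2
    refine ⟨γ', ?_⟩
    change φ' γ' ≫ i = g a * (φ γ ≫ i) * (g a)⁻¹
    rw [hγ', h1]
  have hfin : (Set.range Ψ).Finite :=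
    (Set.Finite.pi' fun _ : Γ => hE).subset (by
      rintro _ ⟨a, rfl⟩
      exact fun γ => hΨ a γ trivial)
  have hfin' : Finite (Set.range Ψ) := hfin
  refine surjective_of_cosets f (Set.range fun y : Set.range Ψ => y.2.choose) (Set.finite_range _) fun a => ?_
  obtain ⟨b, hb⟩ : ∃ b, b = (⟨Ψ a, a, rfl⟩ : Set.range Ψ).2.choose := ⟨_, rfl⟩
  have hb' : Ψ b = Ψ a := by
    rw [hb]
    exact (⟨Ψ a, a, rfl⟩ : Set.range Ψ).2.choose_spec
  refine ⟨b, ⟨⟨Ψ a, a, rfl⟩, hb.symm⟩, ?_⟩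
  have h5 : ∀ γ, ((g b)⁻¹ * g a) * (φ γ ≫ i) = (φ γ ≫ i) * ((g b)⁻¹ * g a) := by
    intro γ
    have h6 : g b * (φ γ ≫ i) * (g b)⁻¹ = g a * (φ γ ≫ i) * (g a)⁻¹ := congrFun hb' γ
    calc ((g b)⁻¹ * g a) * (φ γ ≫ i) = (g b)⁻¹ * (g a * (φ γ ≫ i) * (g a)⁻¹) * g a := by group
      _ = (g b)⁻¹ * (g b * (φ γ ≫ i) * (g b)⁻¹) * g a := by rw [h6]
      _ = _ := by group
  obtain ⟨x, hx⟩ := (hC.2.2 _ ((g b)⁻¹ * g a)).2 (fun X' y h => hφ X' _ (fun γ => by
    have h7 : (y ≫ ((g b)⁻¹ * g a)) * (y ≫ φ γ ≫ i) = (y ≫ φ γ ≫ i) * (y ≫ ((g b)⁻¹ * g a)) := by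
      rw [← MonObj.comp_mul, ← MonObj.comp_mul, h5]
    rw [toUnit_unique (toUnit X') y]
    exact h7) h)
  refine ⟨x, ?_⟩
  rw [← cancel_mono d, MonObj.mul_comp, Category.assoc, hf, ← Category.assoc, hx, MonObj.mul_comp,
    GrpObj.inv_comp, hg, hg, mul_inv_cancel_left]

end

/-- Two factorisations into a cover followed by a monomorphism agree. -/
theorem exists_iso_of_images {S : Scheme.{u}} {X Y A B : Over S} (p : X ⟶ A) (a : A ⟶ Y) (q : X ⟶ B) (b : B ⟶ Y)
    (hp : Cov p) (hq : Cov q) [Mono a] [Mono b] (h : p ≫ a = q ≫ b) : ∃ e : A ≅ B, e.hom ≫ b = a ∧ p ≫ e.hom = q := by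
  obtain ⟨f, hf⟩ := hp.exists_lift_of_mono b a q h.symm
  obtain ⟨g, hg⟩ := hq.exists_lift_of_mono a b p h
  refine ⟨⟨f, g, ?_, ?_⟩, hf, ?_⟩
  · rw [← cancel_mono a, Category.assoc, hg, hf, Category.id_comp]
  · rw [← cancel_mono b, Category.assoc, hf, hg, Category.id_comp]
  · rw [← cancel_mono b, Category.assoc, hf, h]

/-- A flat surjective morphism from a quasi-compact scheme to a subscheme of a separated scheme is a cover. -/
theorem cov_of_mono {S : Scheme.{u}} {X A Y : Over S} (p : X ⟶ A) [Flat p.left] [Surjective p.left] (a : A ⟶ Y)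
    [Mono a] [QuasiCompact X.hom] [IsSeparated Y.hom] : Cov p := by
  have h1 : Mono a.left := inferInstance
  have h2 : IsSeparated A.hom := by rw [← Over.w a]; infer_instance
  have h3 : QuasiCompact (p.left ≫ A.hom) := by rw [Over.w]; infer_instance
  exact ⟨inferInstance, inferInstance, QuasiCompact.of_comp p.left A.hom⟩

/-- The image of a torus is a torus. -/
theorem isTorus_image {G T T' : Over (Spec (CommRingCat.of K))} [GrpObj G] [GrpObj T] [GrpObj T']
    [LocallyOfFiniteType G.hom] (hT : Red.IsTorus T) (φ : T ⟶ G) [IsMonHom φ] (w : T ⟶ T') [IsMonHom w] (hw : Cov w)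
    (t' : T' ⟶ G) [IsMonHom t'] [Mono t'] (h : w ≫ t' = φ) : Red.IsTorus T' := by
  obtain ⟨Q, _, p, i, h1, h2, h3, h4, h5, h6, h7⟩ := NAMain.exists_image_torus φ hT
  have hTqc : QuasiCompact T.hom := by
    have := Sga3.H831.CartConn.isAffine_of_isTorus hT
    infer_instance
  have hGn : IsLocallyNoetherian G.left := LocallyOfFiniteType.isLocallyNoetherian G.hom
  have hQl : LocallyOfFiniteType Q.hom := by
    have := Commute.smooth_of_isTorus h1
    infer_instance
  have hp : Cov p := CovKit.cov_of p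
  obtain ⟨e, he1, he2⟩ := exists_iso_of_images p i w t' hp hw (h7.trans h.symm)
  have hem : IsMonHom e.hom := by
    have : IsMonHom (e.hom ≫ t') := by rw [he1]; infer_instance
    exact Sga3C.SubGrp.isMonHom_of_comp_mono e.hom t'
  exact Sga3B.TorusBc.isTorus_of_iso (Grp.mkIso' e) h1

/-- **The image of the centralizer of a maximal torus is the centralizer of the image of the torus.** -/
theorem isCentralizerOf_image {G H T T' C C' : Over (Spec (CommRingCat.of K))} [GrpObj G] [GrpObj H]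
    [GrpObj T] [GrpObj T'] [GrpObj C] [GrpObj C'] [Smooth G.hom] [QuasiCompact G.hom]
    [Smooth H.hom] [QuasiCompact H.hom] [ConnectedSpace H.left]
    (v : G ⟶ H) [IsMonHom v] [Surjective v.left] (i : T ⟶ G) (hT : Red.IsMaximalTorus i)
    (c : C ⟶ G) (hC : Red.IsCentralizerOf i c)
    (t' : T' ⟶ H) [IsMonHom t'] [Mono t'] (wT : T ⟶ T') [IsMonHom wT] [Flat wT.left] [Surjective wT.left]
    (hwT : wT ≫ t' = i ≫ v)
    (c' : C' ⟶ H) [IsMonHom c'] [Mono c'] (wC : C ⟶ C') [IsMonHom wC] [Flat wC.left] [Surjective wC.left]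
    (hwC : wC ≫ c' = c ≫ v) : Red.IsCentralizerOf t' c' := by
  have hi1 := hT.1
  have hi2 := hT.2.1
  have hc1 := hC.1
  have hc2 := hC.2.1
  have hGsep : IsSeparated G.hom := Groth.Agent.Localalg.GrpSchComp2.isSeparated_hom G
  have hHsep : IsSeparated H.hom := Groth.Agent.Localalg.GrpSchComp2.isSeparated_hom H
  have hTqc : QuasiCompact T.hom := by
    have := Sga3.H831.CartConn.isAffine_of_isTorus hT.2.2.1
    infer_instance
  have hwTc : Cov wT := cov_of_mono wT t'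
  have hT' : Red.IsTorus T' := isTorus_image hT.2.2.1 (i ≫ v) wT hwTc t' hwT
  have hT'l : LocallyOfFiniteType T'.hom := by
    have := Commute.smooth_of_isTorus hT'
    infer_instance
  obtain ⟨D, _, d, hD, hd1, hd2, hd3⟩ := Sga3.H798.CentSep.exists_smooth_centralizer t' hT'
  have hdm := hD.1
  have hdm2 := hD.2.1
  have hDc : ConnectedSpace D.left := Sga3.H831.CartFacts.connectedSpace_centralizer t' hT' hD
  have hDi : IrreducibleSpace D.left := by
    have : GrpObj (Over.mk D.hom) := inferInstanceAs (GrpObj D)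
    exact Sga3C.GrpIrr.irreducibleSpace_of_isAlgClosed D.hom
  -- the centralizer in `G`
  obtain ⟨Z, _, z, hZ, hz1, hz2, hz3⟩ := Sga3.H798.CentSep.exists_smooth_centralizer i hT.2.2.1
  have hZm := hZ.2.1
  obtain ⟨a, ha⟩ := (hZ.2.2 C c).2 ((hC.2.2 C c).1 ⟨𝟙 C, Category.id_comp _⟩)
  obtain ⟨b, hb⟩ := (hC.2.2 Z z).2 ((hZ.2.2 Z z).1 ⟨𝟙 Z, Category.id_comp _⟩)
  have haI : IsIso a := ⟨b, by rw [← cancel_mono c, Category.assoc, hb, ha, Category.id_comp],
    by rw [← cancel_mono z, Category.assoc, ha, hb, Category.id_comp]⟩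
  have haI' : IsIso a.left := inferInstanceAs (IsIso ((Over.forget _).map a))
  have hCl : LocallyOfFiniteType C.hom := by rw [← Over.w a]; infer_instance
  have hCq : QuasiCompact C.hom := by rw [← Over.w a, ← Over.w z]; infer_instance
  -- the map
  obtain ⟨f, hf⟩ := (hD.2.2 C (c ≫ v)).2 (fun X' x h => by
    obtain ⟨X'', s, h', hs, hh'⟩ := hwTc.exists_local h
    refine hs.cancel ?_
    have h1 := (hC.2.2 C c).1 ⟨𝟙 C, Category.id_comp _⟩ X'' (s ≫ x) h'
    have h2 := congrArg (fun q => q ≫ v) h1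
    simp only [MonObj.mul_comp, Category.assoc] at h2
    rw [MonObj.comp_mul, MonObj.comp_mul, ← Category.assoc s h, ← hh', Category.assoc h', hwT]
    exact h2)
  have hfm : IsMonHom f := by
    have : IsMonHom (f ≫ d) := by rw [hf]; infer_instance
    exact Sga3C.SubGrp.isMonHom_of_comp_mono f d
  have hfs := surjective_centralizer v i hT t' wT hwT c hC d hD f hf
  have hDr : IsReduced D.left := Books.AlgPtsSmooth.isReduced_of_smooth D
  have hfc : Cov f := Hom.cov_of_surjective f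
  have hwCc : Cov wC := cov_of_mono wC c'
  obtain ⟨e, he1, he2⟩ := exists_iso_of_images wC c' f d hwCc hfc (hwC.trans hf.symm)
  refine ⟨inferInstance, inferInstance, fun X g => ?_⟩
  rw [← hD.2.2 X g]
  constructor
  · rintro ⟨y, rfl⟩
    exact ⟨y ≫ e.hom, by rw [Category.assoc, he1]⟩
  · rintro ⟨y, rfl⟩
    exact ⟨y ≫ e.inv, by rw [Category.assoc, ← he1, Iso.inv_hom_id_assoc]⟩

section Cartan

variable {G H : Over (Spec (CommRingCat.of K))} [GrpObj G] [GrpObj H] [Smooth G.hom] [QuasiCompact G.hom]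
  [Smooth H.hom] [QuasiCompact H.hom] [ConnectedSpace H.left] (v : G ⟶ H) [IsMonHom v] [Surjective v.left]

/-- **The image of a Cartan subgroup is a Cartan subgroup.** -/
theorem isCartanOver_image {C C' : Over (Spec (CommRingCat.of K))} [GrpObj C] [GrpObj C'] (c : C ⟶ G)
    (hc : SGA3x.IsCartanOver K c) (c' : C' ⟶ H) [IsMonHom c'] [Mono c'] (w : C ⟶ C') [IsMonHom w] [Flat w.left]
    [Surjective w.left] (hw : w ≫ c' = c ≫ v) : SGA3x.IsCartanOver K c' := by
  obtain ⟨hc1, hc2, T, _, i, hi, hci⟩ := hc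
  have hi1 := hi.1
  have hi2 := hi.2.1
  have hGsep : IsSeparated G.hom := Groth.Agent.Localalg.GrpSchComp2.isSeparated_hom G
  obtain ⟨Q, _, p, t', h1, h2, h3, h4, h5, h6, h7⟩ := NAMain.exists_image_torus (i ≫ v) hi.2.2.1
  exact ⟨inferInstance, inferInstance, Q, inferInstance, t', MaxImg.isMaximalTorus_image v i hi p t' h1 h7,
    isCentralizerOf_image v i hi c hci t' p h7 c' w hw⟩

/-- **Every Cartan subgroup is the image of a Cartan subgroup.** -/
theorem exists_cartan {C' : Over (Spec (CommRingCat.of K))} [GrpObj C'] (c' : C' ⟶ H)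
    (hc' : SGA3x.IsCartanOver K c') :
    ∃ (C : Over (Spec (CommRingCat.of K))) (_ : GrpObj C) (c : C ⟶ G) (w : C ⟶ C'), SGA3x.IsCartanOver K c ∧
      IsMonHom w ∧ Flat w.left ∧ Surjective w.left ∧ w ≫ c' = c ≫ v := by
  obtain ⟨hc1, hc2, T', _, i', hi', hci'⟩ := hc'
  have hi'1 := hi'.1
  have hi'2 := hi'.2.1
  have hGsep : IsSeparated G.hom := Groth.Agent.Localalg.GrpSchComp2.isSeparated_hom G
  obtain ⟨T, _, i, hi⟩ := NAMain.exists_isMaximalTorus G
  have hi1 := hi.1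
  have hi2 := hi.2.1
  obtain ⟨Q, _, p, t', h1, h2, h3, h4, h5, h6, h7⟩ := NAMain.exists_image_torus (i ≫ v) hi.2.2.1
  have ht' := MaxImg.isMaximalTorus_image v i hi p t' h1 h7
  obtain ⟨h, θ, hθ⟩ := NAMain.exists_conjBy t' i' ht' hi'
  obtain ⟨g, hg⟩ := exists_comp_eq_of_pt_mem_range v h (v.left.surjective _)
  have hi₂ := Conj.isMaximalTorus_conj i hi g
  have hi₂1 := hi₂.1
  have e1 : (p ≫ θ.hom) ≫ i' = (i ≫ (Conj.conjIso g).hom) ≫ v := by
    rw [Conj.conjIso_hom_comp, hg, ← h7, Category.assoc, ← hθ, Category.assoc, Conj.comp_conjIso_hom]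
  have hθI : IsIso θ.hom.left := inferInstanceAs (IsIso ((Over.forget _).map θ.hom))
  have e2 : Flat (p ≫ θ.hom).left := by rw [Over.comp_left]; infer_instance
  have e3 : Surjective (p ≫ θ.hom).left := by rw [Over.comp_left]; infer_instance
  have e4 : IsMonHom (p ≫ θ.hom) := by
    have : IsMonHom ((p ≫ θ.hom) ≫ i') := by rw [e1]; infer_instance
    exact Sga3C.SubGrp.isMonHom_of_comp_mono _ i'
  obtain ⟨C, _, c, hC, hc3, hc4, hc5⟩ :=
    Sga3.H798.CentSep.exists_smooth_centralizer (i ≫ (Conj.conjIso g).hom) hi₂.2.2.1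
  have hcm := hC.1
  have hcm2 := hC.2.1
  have hCq : QuasiCompact C.hom := by rw [← Over.w c]; infer_instance
  obtain ⟨C₁, _, q, c₁, k1, k2, k3, k4, k5⟩ := Hom.exists_image (c ≫ v)
  have hc₁m : Mono c₁ := mono_of_isClosedImmersion c₁
  have k6 := k4.flat
  have k7 := k4.surj
  have hC₁ := isCentralizerOf_image v _ hi₂ c hC i' (p ≫ θ.hom) e1 c₁ q k3
  obtain ⟨a, ha⟩ := (hci'.2.2 C₁ c₁).2 ((hC₁.2.2 C₁ c₁).1 ⟨𝟙 C₁, Category.id_comp _⟩)
  obtain ⟨b, hb⟩ := (hC₁.2.2 C' c').2 ((hci'.2.2 C' c').1 ⟨𝟙 C', Category.id_comp _⟩)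
  have haI : IsIso a := ⟨b, by rw [← cancel_mono c₁, Category.assoc, hb, ha, Category.id_comp],
    by rw [← cancel_mono c', Category.assoc, ha, hb, Category.id_comp]⟩
  have haI' : IsIso a.left := inferInstanceAs (IsIso ((Over.forget _).map a))
  have ham : IsMonHom a := by
    have : IsMonHom (a ≫ c') := by rw [ha]; infer_instance
    exact Sga3C.SubGrp.isMonHom_of_comp_mono a c'
  refine ⟨C, inferInstance, c, q ≫ a, ⟨hcm, hcm2, T, inferInstance, _, hi₂, hC⟩, inferInstance, ?_, ?_, ?_⟩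
  · rw [Over.comp_left]; infer_instance
  · rw [Over.comp_left]; infer_instance
  · rw [Category.assoc, ha, k3]

end Cartan

end K19.ImgCart
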