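import Groth.Agent.SGA3x.K19.LocSplit

/-!
# The greatest locally split subtorus over a connected base
-/

set_option autoImplicit false
universe u
open CategoryTheory MonoidalCategory CartesianMonoidalCategory MonObj GrpObj AlgebraicGeometry Limits

namespace K19.LocSplitMax

open Groth.Agent Groth.Agent.Sga3 Groth.Agent.Sga3B Groth.Agent.Sga3B.DSPts Groth.Agent.Sga3B.DSRigid
open K19.Ad K19.LocSplit

variable {S : Scheme.{u}} {T T' G Q : Over S} [GrpObj T] [GrpObj T'] [GrpObj G] [GrpObj Q]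

/-- all geometric fibres are split tori of rank `r` -/
def HasRk (T : Over S) [GrpObj T] (r : ℕ) : Prop :=
  ∀ s : S, Red.IsSplitTorusWith (Fin r → ℤ) (Red.geomFibre s T)

lemma rank_unique {R : Type u} [CommRing R] [IsLocalRing R] {T : Over (Spec (.of R))} [GrpObj T] {r r' : ℕ}
    (h : Red.IsSplitTorusWith (Fin r → ℤ) T) (h' : Red.IsSplitTorusWith (Fin r' → ℤ) T) : r = r' := by
  obtain ⟨e⟩ := Parab.TorRank156.nonempty_addEquiv h h'
  have := LinearEquiv.finrank_eq e.toIntLinearEquiv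
  simpa using this

lemma isSplit_geomFibre {U : S.Opens} {s : S} (hs : s ∈ U) {r : ℕ}
    (h : Red.IsSplitTorusWith (Fin r → ℤ) (Red.bc U.ι T)) :
    Red.IsSplitTorusWith (Fin r → ℤ) (Red.geomFibre s T) := by
  obtain ⟨k, hk⟩ := exists_lift_of_range U.ι (Red.geomPt s) (by
    rintro _ ⟨x, rfl⟩
    rw [Scheme.Opens.range_ι]
    have h1 : Red.geomPt s x ∈ Set.range (S.fromSpecResidueField s) := ⟨_, (Scheme.Hom.comp_apply _ _ _).symm⟩
    rw [Scheme.range_fromSpecResidueField] at h1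
    rw [Set.mem_singleton_iff.1 h1]
    exact hs)
  have h1 := TorusAlgClosed.isSplitTorusWith_bc k h
  exact TorusBc.isSplitTorusWith_of_iso ((BcIso.bcCompIso k U.ι T).symm ≪≫ BcIso.bcCongrIso hk T) h1

/-- **The rank of a locally split torus over a connected base is constant.** -/
theorem exists_hasRk [ConnectedSpace S] (h : IsLocSplit T) : ∃ r, HasRk T r := by
  obtain ⟨s₀⟩ := (inferInstance : Nonempty S)
  obtain ⟨U₀, hs₀, r, hr⟩ := h s₀
  refine ⟨r, ?_⟩
  let W : Set S := {s | Red.IsSplitTorusWith (Fin r → ℤ) (Red.geomFibre s T)}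
  have hW : IsClopen W := by
    constructor
    · rw [← isOpen_compl_iff, isOpen_iff_forall_mem_open]
      intro s hs
      obtain ⟨U, hsU, r', hr'⟩ := h s
      refine ⟨U, fun t ht htW => ?_, U.2, hsU⟩
      obtain rfl := rank_unique htW (isSplit_geomFibre ht hr')
      exact hs (isSplit_geomFibre hsU hr')
    · rw [isOpen_iff_forall_mem_open]
      intro s hs
      obtain ⟨U, hsU, r', hr'⟩ := h s
      obtain rfl := rank_unique hs (isSplit_geomFibre hsU hr')
      exact ⟨U, fun t ht => isSplit_geomFibre ht hr', U.2, hsU⟩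
  have h1 : W = Set.univ := (isClopen_iff.1 hW).resolve_left fun h0 => by
    have : s₀ ∈ W := isSplit_geomFibre hs₀ hr
    rw [h0] at this
    exact this
  intro s
  have h2 : s ∈ W := h1 ▸ trivial
  exact h2

/-- A monomorphism of tori with non-increasing constant ranks is an isomorphism. -/
theorem isIso_of_mono (hT : Red.IsTorus T) (hT' : Red.IsTorus T') (f : T ⟶ T') [IsMonHom f] [Mono f] {r r' : ℕ}
    (hr : r ≤ r') (h : HasRk T r') (h' : HasRk T' r) : IsIso f := by
  have h1 := TorusAlgClosed.smooth_of_isTorus hT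
  have h2 := TorusAlgClosed.smooth_of_isTorus hT'
  refine TorusEtSplit.isIso_of_geomFibres f fun s => ?_
  have h3 : IsMonHom ((Over.pullback (Red.geomPt s)).map f) := inferInstance
  exact DSKit.isIso_of_mono_local hr (h s) (h' s) _

/-- Maximal rank for locally split subtori. -/
theorem exists_max [ConnectedSpace S] (hG : Red.IsTorus G) :
    ∃ (r : ℕ) (T : Over S) (_ : GrpObj T) (j : T ⟶ G), IsMonHom j ∧ Mono j ∧ IsLocSplit T ∧ HasRk T r ∧
      ∀ (T' : Over S) [GrpObj T'] (j' : T' ⟶ G) [IsMonHom j'] [Mono j'] (r' : ℕ), IsLocSplit T' → HasRk T' r' →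
        r' ≤ r := by
  obtain ⟨s⟩ := (inferInstance : Nonempty S)
  obtain ⟨k, hk⟩ := TorusAlgClosed.exists_isSplitTorusWith (TorusBc.isTorus_bc (Red.geomPt s) hG)
  let P : ℕ → Prop := fun r => ∃ (T : Over S) (_ : GrpObj T) (j : T ⟶ G), IsMonHom j ∧ Mono j ∧ IsLocSplit T ∧
    HasRk T r
  have hPk : ∀ r, P r → r ≤ k := by
    rintro r ⟨T, _, j, hj, hj', -, hr⟩
    have h1 : IsMonHom ((Over.pullback (Red.geomPt s)).map j) := inferInstance
    exact SplitTor.rank_le_of_mono_local (hr s) hk ((Over.pullback (Red.geomPt s)).map j)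
  have hP : ∃ r, P r := by
    obtain ⟨r, j, hj, hjm, -⟩ := SplitTor.exists_max hG
    exact ⟨r, Red.DS S (Fin r → ℤ), inferInstance, j, hj, hjm, isLocSplit_of_isSplit (SplitTor.isSplit_DS S _),
      fun s => TorusAlgClosed.isSplitTorusWith_bc _ (SplitTor.isSplit_DS S _)⟩
  classical
  obtain ⟨r₀, hr₀⟩ := hP
  let r := Nat.findGreatest P k
  have hr : P r := Nat.findGreatest_spec (P := P) (hPk r₀ hr₀) hr₀
  obtain ⟨T, _, j, hj, hj', hT, hTr⟩ := hr
  refine ⟨r, T, inferInstance, j, hj, hj', hT, hTr, fun T' _ j' _ _ r' hT' hr' => ?_⟩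
  have h1 : P r' := ⟨T', inferInstance, j', inferInstance, inferInstance, hT', hr'⟩
  exact Nat.le_findGreatest (hPk r' h1) h1

/-- **The greatest locally split subtorus of a torus over a connected base.** -/
theorem exists_greatest [ConnectedSpace S] (hG : Red.IsTorus G) :
    ∃ (T : Over S) (_ : GrpObj T) (j : T ⟶ G), IsMonHom j ∧ Mono j ∧ IsLocSplit T ∧
      ∀ (T' : Over S) [GrpObj T'] (j' : T' ⟶ G) [IsMonHom j'], IsLocSplit T' → ∃ g : T' ⟶ T, g ≫ j = j' := by
  obtain ⟨r, T, _, j, hj, hjm, hT, hTr, hmax⟩ := exists_max hG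
  refine ⟨T, inferInstance, j, hj, hjm, hT, fun T' _ j' _ hT' => ?_⟩
  have hA := TorusAlgClosed.isAffineHom_of_isTorus hG
  have hsm := TorusAlgClosed.smooth_of_isTorus hG
  obtain ⟨Q, _, a, b, i, ha, hb, hi, him, hai, hbi, hQ⟩ := exists_sup
    (fun X x y => MaxTorNear900.mul_comm_of_isTorus hG X x y) hT hT' j j'
  obtain ⟨r', hr'⟩ := exists_hasRk hQ
  have h1 := hmax Q i r' hQ hr'
  have h2 : Mono a := by
    have : Mono (a ≫ i) := by rw [hai]; exact hjm
    exact mono_of_mono a i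
  have h3 := isIso_of_mono (isTorus hT) (isTorus hQ) a h1 hTr hr'
  refine ⟨b ≫ inv a, ?_⟩
  rw [Category.assoc, ← hai, IsIso.inv_hom_id_assoc, hbi]

end K19.LocSplitMax
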