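import Groth.Agent.SGA3x.K10.SolvAff
import Groth.Agent.SGA3x.K983.PreimMT
import Groth.Agent.SGA3x.K19.BorelQuot
import Groth.Agent.RedSub.K208.QSplit2
import Groth.Agent.S0114
import Groth.Agent.S4124

/-!
# The quotient of a group of unipotent rank zero by its centre

`main`: `G` smooth of finite presentation with affine connected fibres and unipotent rank zero, `q : G ⟶ Q` the
quotient by the centre `Z` (of multiplicative type by `K10.URZ.centre_isMultTypeFT`): `Q` is quasi-affine with affine
fibres, of unipotent rank zero, and its centre is trivial (its preimage in `G` is central by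
`K983.PreimMT.central_preimage`).
-/

set_option autoImplicit false
universe u
open CategoryTheory MonoidalCategory CartesianMonoidalCategory MonObj GrpObj AlgebraicGeometry Limits

namespace K19.CentTriv

open Groth.Agent

variable {S : Scheme.{u}}

/-- A group whose identity is the trivial homomorphism is trivial. -/
theorem isTrivialGrp_of_eq_one {Z : Over S} [GrpObj Z] (h : 𝟙 Z = 1) : Red.IsTrivialGrp Z := by
  have h1 : (η[Z] : 𝟙_ (Over S) ⟶ Z).left ≫ Z.hom = 𝟙 S := Over.w η[Z]
  have h2 : Z.hom ≫ (η[Z] : 𝟙_ (Over S) ⟶ Z).left = 𝟙 Z.left := by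
    have h3 : (toUnit Z ≫ η[Z]).left = (𝟙 Z : Z ⟶ Z).left := congrArg (fun x => x.left) h.symm
    have h4 : (toUnit Z).left = Z.hom := by
      have h5 := Over.w (toUnit Z)
      exact (Category.comp_id _).symm.trans h5
    rw [← h4]
    exact h3
  exact ⟨_, h2, h1⟩

/-- **The centre of the quotient by the centre is trivial.** -/
theorem main (G : Over S) [GrpObj G] [Smooth G.hom] [QuasiCompact G.hom]
    (haff : ∀ s : S, IsAffine (pullback G.hom (S.fromSpecResidueField s)))
    (hconn : ∀ s : S, _root_.IsConnected (G.hom.base ⁻¹' {s})) (hu : SGA3x.UnipotentRankZero G)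
    (Z : Over S) [GrpObj Z] (j : Z ⟶ G) (hZ : Red.IsCentre j)
    (Q : Over S) [GrpObj Q] (q : G ⟶ Q) [IsMonHom q] (hq : RedSub.IsQuotient j q) :
    Mor2.IsQuasiAffine Q.hom ∧ (∀ s : S, IsAffine (pullback Q.hom (S.fromSpecResidueField s))) ∧
    (∀ (Z' : Over S) [GrpObj Z'] (j' : Z' ⟶ Q), Red.IsCentre j' → Red.IsTrivialGrp Z') ∧
    SGA3x.UnipotentRankZero Q := by
  obtain ⟨hsep, -⟩ := K10.URZ.sep_qc G hconn
  have hjm : IsMonHom j := hZ.1
  have hjmono : Mono j := hZ.2.1
  have hker : AlgGrp.IsKernel j q := K208.QSplit.isKernel_of_isQuotient hq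
  obtain ⟨hqs, hqf, hqlfp, -⟩ := hq
  have hQlfp : LocallyOfFinitePresentation Q.hom := by
    have : LocallyOfFinitePresentation (q.left ≫ Q.hom) := by rw [Over.w]; infer_instance
    exact S0114.result q.left Q.hom
  have hQsm : Smooth Q.hom := K10.SolvAff.smooth_quotient q
  have hQconn := K983.PreimMT.connected_of_surjective q hconn
  obtain ⟨hQsep, hQqc⟩ := K10.URZ.sep_qc Q hQconn
  have hcent : ∀ (X : Over S) (z g : X ⟶ G), z ≫ q = 1 → z * g = g * z := by
    intro X z g hz
    have h1 : hker.lift z (toUnit X) hz ≫ j = z := hker.lift_fst _ _ _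
    have h2 := (hZ.2.2 X z).1 ⟨_, h1⟩ X (𝟙 X) g
    rwa [Category.id_comp, Category.comp_id] at h2
  have hQu : SGA3x.UnipotentRankZero Q := K10.SolvAff.unipotentRankZero_quotient hu q hcent
  have hQaff := K10.URZAff.affine_fibres Q hQconn hQu
  refine ⟨(S4124.result S Q hQaff hQconn hQu).2.2.2.1, hQaff, fun Z' _ j' hj' => ?_, hQu⟩
  have hj'm : IsMonHom j' := hj'.1
  have hj'mono : Mono j' := hj'.2.1
  have hZm := K10.URZ.centre_isMultTypeFT G haff hconn hu j hZ
  have hZ'm := K10.URZ.centre_isMultTypeFT Q hQaff hQconn hQu j' hj'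
  have hqqc : QuasiCompact q.left := by
    have : QuasiCompact (q.left ≫ Q.hom) := by rw [Over.w]; infer_instance
    exact QuasiCompact.of_comp q.left Q.hom
  obtain ⟨P, _, i', p, hi', hp, hi'mono, hP⟩ := K19.BorelQuot.exists_preimage q j'
  have hcen' : ∀ (X : Over S) (x : X ⟶ Z') (g : X ⟶ Q), (x ≫ j') * g = g * (x ≫ j') := by
    intro X x g
    have h2 := (hj'.2.2 X (x ≫ j')).1 ⟨x, rfl⟩ X (𝟙 X) g
    rwa [Category.id_comp, Category.comp_id] at h2
  have hPc := K983.PreimMT.central_preimage hconn j hZm q hker j' hZ'm hcen' i' p hP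
  obtain ⟨k, hk⟩ := (hZ.2.2 P i').2 (fun X x g => by
    rw [Category.comp_id]
    exact hPc X x g)
  have hp1 : p = 1 := by
    rw [← cancel_mono j', MonObj.one_comp, ← hP.w, ← hk, Category.assoc, hker.w]
    rw [← Category.assoc]
    change _ = toUnit P ≫ η[Q]
    congr 1
    exact toUnit_unique _ _
  have hpb : IsPullback i'.left p.left q.left j'.left := hP.map (Over.forget S)
  have f1 : Flat p.left := MorphismProperty.of_isPullback (P := @Flat) hpb inferInstance
  have f2 : Surjective p.left := MorphismProperty.of_isPullback (P := @Surjective) hpb inferInstance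
  have hepi := Groth.Agent.Sga3C.QuotProps.epi_of_flat_surjective p
  refine isTrivialGrp_of_eq_one ?_
  rw [← cancel_epi p, Category.comp_id, MonObj.comp_one, hp1]

end K19.CentTriv
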