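import Groth.Agent.SGA3x.K19.NilRed
import Groth.Agent.SGA3x.K16.PreimMain
import Groth.Agent.Red.K217.IdComp2
import Groth.Agent.AlgGrp.K411.WordDens
import Groth.Agent.Sga3B.Parab.Inter
import Groth.Agent.Sga3.H799.Fld
import Groth.Agent.Ega1.ReducedSub
import Groth.Agent.MaxMod.K722.FlatRel

/-!
# Flat subgroup schemes over a trait whose fibres are, up to reduction, Cartan subgroups

Main theorem `isCartan`: `G` smooth of finite type over a discrete valuation ring `R`, `c : C ⟶ G` a flat subgroup
scheme whose generic fibre is a Cartan subgroup and such that the reduced geometric special fibre is a Cartan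
subgroup. Then `C` is a Cartan subgroup. The intersection `N` of `C` with the neutral component of `G` is flat and
separated with nilpotent generic fibre, hence nilpotent, and one applies `K19.NilRed.isIso_of_nilpotent` to the
geometric special fibre.
-/

set_option autoImplicit false
universe u
open CategoryTheory MonoidalCategory CartesianMonoidalCategory MonObj GrpObj AlgebraicGeometry Limits

namespace K19.CartTrait

open Groth.Agent Groth.Agent.Sga3.H831 Groth.Agent.Sga3.H784

section Field

variable {K : Type u} [Field K] [IsAlgClosed K] {G C N U : Over (Spec (CommRingCat.of K))} [GrpObj G] [GrpObj C]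
  [GrpObj N] [GrpObj U]

omit [IsAlgClosed K] in
/-- Tori factor through open subgroups. -/
theorem exists_lift_torus {T D D₀ : Over (Spec (CommRingCat.of K))} [GrpObj T] [GrpObj D] [GrpObj D₀]
    (hT : Red.IsTorus T) (φ : T ⟶ D) [IsMonHom φ] (c₀ : D₀ ⟶ D) [IsMonHom c₀] [IsOpenImmersion c₀.left] :
    ∃ φ₀ : T ⟶ D₀, φ₀ ≫ c₀ = φ := by
  have := Sga3B.TorusIrr.geometricallyIrreducible_of_isTorus hT
  have := Sga3B.TorusAlgClosed.smooth_of_isTorus hT
  exact Sga3.H799.Fld.exists_lift_open φ c₀

/-- The intersection of a Cartan subgroup with an open subgroup is a Cartan subgroup of the latter. -/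
theorem isCartanOver_inter {c : C ⟶ G} (hc : SGA3x.IsCartanOver K c) (u : U ⟶ G) [IsMonHom u]
    [IsOpenImmersion u.left] {a : N ⟶ C} {b : N ⟶ U} [IsMonHom b] (h : IsPullback a b c u) :
    SGA3x.IsCartanOver K b := by
  obtain ⟨hc1, hc2, T, _, i, hi, hic⟩ := hc
  have hi1 := hi.1
  have hum : Mono u := Over.mono_of_mono_left u
  obtain ⟨τ, hτ⟩ := exists_lift_torus hi.2.2.1 i u
  have hτmax : Red.IsMaximalTorus τ := CartTors.isMaximalTorus_of_comp u τ (by rw [hτ]; exact hi)
  have hbm : Mono b := by
    refine ⟨fun x y hxy => ?_⟩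
    refine h.hom_ext ?_ hxy
    rw [← cancel_mono c, Category.assoc, Category.assoc, h.w, ← Category.assoc, hxy, Category.assoc]
  refine ⟨inferInstance, hbm, T, inferInstance, τ, hτmax, inferInstance, hbm, fun X g => ?_⟩
  constructor
  · rintro ⟨z, rfl⟩ X' x t
    have h1 := (hic.2.2 X (z ≫ a ≫ c)).1 ⟨z ≫ a, by rw [Category.assoc]⟩ X' x t
    rw [h.w] at h1
    rw [← cancel_mono u, MonObj.mul_comp, MonObj.mul_comp, Category.assoc, Category.assoc, Category.assoc, hτ]
    exact h1
  · intro h2
    obtain ⟨w, hw⟩ := (hic.2.2 X (g ≫ u)).2 (fun X' x t => by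
      have h3 := congrArg (fun y => y ≫ u) (h2 X' x t)
      simp only [MonObj.mul_comp, Category.assoc, hτ] at h3
      exact h3)
    exact ⟨h.lift w g hw, h.lift_snd _ _ _⟩

end Field

section Smooth

variable {S : Scheme.{u}}

/-- Smoothness can be tested at points with values in fields. -/
theorem smooth_of_points {X : Over S} [Flat X.hom] [LocallyOfFinitePresentation X.hom]
    (h : ∀ s : S, ∃ (L : Type u) (_ : Field L) (y : Spec (CommRingCat.of L) ⟶ S),
      y (IsLocalRing.closedPoint L) = s ∧ Smooth (pullback.snd X.hom y)) : Smooth X.hom := by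
  refine Smooth.of_smooth_fiberToSpecResidueField X.hom fun s => ?_
  obtain ⟨L, _, y, hy, hsm⟩ := h s
  obtain ⟨φ, rfl⟩ := Sga3.H799.FibCrit.exists_factor_residueField y s hy
  have h1 : IsPullback (Limits.pullback.fst X.hom (Spec.map φ ≫ S.fromSpecResidueField s))
      (Limits.pullback.snd X.hom (Spec.map φ ≫ S.fromSpecResidueField s)) X.hom
        (Spec.map φ ≫ S.fromSpecResidueField s) := IsPullback.of_hasPullback _ _
  have h2 : IsPullback (X.hom.fiberι s) (X.hom.fiberToSpecResidueField s) X.hom (S.fromSpecResidueField s) :=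
    IsPullback.of_hasPullback X.hom (S.fromSpecResidueField s)
  have h3 := IsPullback.of_right' h1 h2
  have h4 : (@Surjective ⊓ @Flat ⊓ @QuasiCompact : MorphismProperty Scheme.{u}) (Spec.map φ) :=
    K16.PreimMain.surj_flat_qc φ.hom
  exact MorphismProperty.of_isPullback_of_descendsAlong (P := @Smooth)
    (Q := @Surjective ⊓ @Flat ⊓ @QuasiCompact) h3.flip h4 hsm

end Smooth

/-- Smoothness over a base with two points. -/
theorem smooth_two {S : Scheme.{u}} {X : Over S} [Flat X.hom] [LocallyOfFinitePresentation X.hom] {s : S}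
    {K : Type u} [Field K] (f : Spec (CommRingCat.of K) ⟶ S)
    (hpts : ∀ t : S, t = s ∨ f (IsLocalRing.closedPoint K) = t) (h1 : Smooth (Red.geomFibre s X).hom)
    (h2 : Smooth ((Over.pullback f).obj X).hom) : Smooth X.hom := by
  have h1' : ∃ (L : Type u) (_ : Field L) (y : Spec (CommRingCat.of L) ⟶ S),
      y (IsLocalRing.closedPoint L) = s ∧ Smooth (pullback.snd X.hom y) :=
    ⟨AlgebraicClosure (S.residueField s), inferInstance, Red.geomPt s, K16.PreimMain.geomPt_closedPoint s, h1⟩
  refine smooth_of_points fun t => ?_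
  rcases hpts t with ht | ht
  · rw [ht]
    exact h1'
  · exact ⟨K, inferInstance, f, ht, h2⟩

/-- Cartan subgroups over a base with two points. -/
theorem isCartan_two {S : Scheme.{u}} {G C : Over S} [GrpObj G] [GrpObj C] [Smooth G.hom] [Smooth C.hom]
    (c : C ⟶ G) [IsMonHom c] [Mono c] {K L : Type u} [Field K] [Field L] [IsAlgClosed L]
    (f : Spec (CommRingCat.of K) ⟶ S) (σ : Spec (CommRingCat.of L) ⟶ Spec (CommRingCat.of K)) {s : S}
    (hpts : ∀ t : S, t = s ∨ f (IsLocalRing.closedPoint K) = t)
    (h1 : SGA3x.IsCartanOver (AlgebraicClosure (S.residueField s)) ((Over.pullback (Red.geomPt s)).map c))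
    (h2 : SGA3x.IsCartanOver L ((Over.pullback σ).map ((Over.pullback f).map c))) : SGA3x.IsCartan c := by
  have h1' : ∃ (L : Type u) (_ : Field L) (_ : IsAlgClosed L) (y : Spec (CommRingCat.of L) ⟶ S),
      y (IsLocalRing.closedPoint L) = s ∧ SGA3x.IsCartanOver L ((Over.pullback y).map c) :=
    ⟨AlgebraicClosure (S.residueField s), inferInstance, inferInstance, Red.geomPt s,
      K16.PreimMain.geomPt_closedPoint s, h1⟩
  refine CartBc.isCartan_of_geom c fun t => ?_
  rcases hpts t with ht | ht
  · rw [ht]
    exact h1'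
  · refine ⟨L, inferInstance, inferInstance, σ ≫ f, ?_, (CartBc.isCartanOver_comp_iff σ f c).2 h2⟩
    have h3 : σ (IsLocalRing.closedPoint L) = IsLocalRing.closedPoint K :=
      Subsingleton.elim (α := PrimeSpectrum K) _ _
    rw [Scheme.Hom.comp_apply, h3, ht]

/-- **Main theorem.** -/
theorem isCartan (R : Type u) [CommRing R] [IsDomain R] [IsDiscreteValuationRing R]
    (G C : Over (Spec (CommRingCat.of R))) [GrpObj G] [GrpObj C] [Smooth G.hom] [QuasiCompact G.hom]
    (c : C ⟶ G) [IsMonHom c] [IsImmersion c.left] [Flat C.hom]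
    (hgen : SGA3x.IsCartan ((Over.pullback (Spec.map (CommRingCat.ofHom (algebraMap R (FractionRing R))))).map c))
    (s : ↥(Spec (CommRingCat.of R))) (hs : IsClosed ({s} : Set ↥(Spec (CommRingCat.of R))))
    (hsp : ∃ (C' : Over (Spec (CommRingCat.of (AlgebraicClosure ((Spec (CommRingCat.of R)).residueField s)))))
      (_ : GrpObj C') (c' : C' ⟶ Red.geomFibre s G),
      SGA3x.IsCartanOver (AlgebraicClosure ((Spec (CommRingCat.of R)).residueField s)) c' ∧ IsReduced C'.left ∧
      Set.range c'.left.base = Set.range ((Over.pullback (Red.geomPt s)).map c).left.base) :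
    SGA3x.IsCartan c := by
  have hcmono : Mono c := Over.mono_of_mono_left c
  have hnoeth : IsLocallyNoetherian (Spec (CommRingCat.of R)) := inferInstance
  have hGn : IsLocallyNoetherian G.left := LocallyOfFiniteType.isLocallyNoetherian G.hom
  have hClft : LocallyOfFiniteType C.hom := by rw [← Over.w c]; infer_instance
  have hClfp : LocallyOfFinitePresentation C.hom := LocallyOfFinitePresentation.iff_locallyOfFiniteType.2 hClft
  -- the neutral component
  obtain ⟨G0, _, u, hum, huo, -, hG0s, hG0q, hG0sep, hG0i, hG0c, -⟩ := K217.IdComp2.exists_neutral G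
  have humono : Mono u := Over.mono_of_mono_left u
  obtain ⟨N, _, a, b, ha, hb, hpb⟩ := Sga3B.Parab.Inter.exists_inter c u
  have hao : IsOpenImmersion a.left := by
    have h1 := hpb.map (Over.forget _)
    exact MorphismProperty.of_isPullback (P := @IsOpenImmersion) h1.flip huo
  have hbmono : Mono b := by
    refine ⟨fun x y hxy => ?_⟩
    refine hpb.hom_ext ?_ hxy
    rw [← cancel_mono c, Category.assoc, Category.assoc, hpb.w, ← Category.assoc, hxy, Category.assoc]
  have hNf : Flat N.hom := by rw [← Over.w a]; infer_instance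
  have hNsep : IsSeparated N.hom := by
    have : Mono b.left := Over.mono_left_of_mono b
    rw [← Over.w b]; infer_instance
  -- the generic fibre of `N` is nilpotent
  let K := FractionRing R
  let f : Spec (CommRingCat.of K) ⟶ Spec (CommRingCat.of R) := Spec.map (CommRingCat.ofHom (algebraMap R K))
  let σ : Spec (CommRingCat.of (AlgebraicClosure K)) ⟶ Spec (CommRingCat.of K) :=
    Spec.map (CommRingCat.ofHom (algebraMap K (AlgebraicClosure K)))
  have hGflft : LocallyOfFiniteType ((Over.pullback f).obj G).hom :=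
    inferInstanceAs (LocallyOfFiniteType (pullback.snd G.hom f))
  have hgen' : SGA3x.IsCartanOver (AlgebraicClosure K) ((Over.pullback σ).map ((Over.pullback f).map c)) :=
    CartBc.isCartanOver_pullback_geom hgen σ
  have hNgen : SGA3x.IsCartanOver (AlgebraicClosure K) ((Over.pullback σ).map ((Over.pullback f).map b)) :=
    isCartanOver_inter hgen' ((Over.pullback σ).map ((Over.pullback f).map u))
      (a := (Over.pullback σ).map ((Over.pullback f).map a)) ((hpb.map (Over.pullback f)).map (Over.pullback σ))
  have hi1 : GeometricallyIrreducible ((Over.pullback f).obj G0).hom :=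
    inferInstanceAs (GeometricallyIrreducible (pullback.snd G0.hom f))
  have hi2 : IrreducibleSpace ((Over.pullback σ).obj ((Over.pullback f).obj G0)).left :=
    hi1.geometrically_irreducibleSpace _ _ _ (IsPullback.of_hasPullback ((Over.pullback f).obj G0).hom σ)
  have hsm1 : Smooth ((Over.pullback f).obj G0).hom := inferInstanceAs (Smooth (pullback.snd G0.hom f))
  have hsm2 : Smooth ((Over.pullback σ).obj ((Over.pullback f).obj G0)).hom :=
    inferInstanceAs (Smooth (pullback.snd ((Over.pullback f).obj G0).hom σ))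
  have hqc1 : QuasiCompact ((Over.pullback f).obj G0).hom := inferInstanceAs (QuasiCompact (pullback.snd G0.hom f))
  have hqc2 : QuasiCompact ((Over.pullback σ).obj ((Over.pullback f).obj G0)).hom :=
    inferInstanceAs (QuasiCompact (pullback.snd ((Over.pullback f).obj G0).hom σ))
  have hN2 : AGF.IsNilpotentGrp (Red.bc σ (Red.bc f N)) := CartNil.isNilpotentGrp_cartan _ hNgen
  have hσf := CartBc.flat_spec σ
  have hσs := CartBc.surjective_spec σ
  have hN1 : AGF.IsNilpotentGrp (Red.bc f N) := Agf.H591.Cartan.isNilpotentGrp_of_bc σ hN2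
  have hdom : IsSchemeTheoreticallyDominant f := K722.FlatRel.dominant_generic R K
  have hN : AGF.IsNilpotentGrp N := AlgGrp.K411.WordDens.isNilpotentGrp_of_dominant (f := f) hN1
  -- the special fibre
  obtain ⟨C', _, c', hc', hred, hrange⟩ := hsp
  let x := Red.geomPt s
  have hcx : IsImmersion ((Over.pullback x).map c).left :=
    MorphismProperty.of_isPullback (P := @IsImmersion) (Sga3.H798.FpqcIso.isPullback_map_left x c) inferInstance
  have hNx : AGF.IsNilpotentGrp (Red.bc x N) := AlgGrp.K411.WordDens.isNilpotentGrp_bc x N hN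
  have hGx : Smooth (Red.geomFibre s G).hom := inferInstanceAs (Smooth (pullback.snd G.hom x))
  have hGxq : QuasiCompact (Red.geomFibre s G).hom := inferInstanceAs (QuasiCompact (pullback.snd G.hom x))
  have hGxs : IsSeparated (Red.geomFibre s G).hom := Groth.Agent.Localalg.GrpSchComp2.isSeparated_hom _
  have hCxl : LocallyOfFiniteType ((Over.pullback x).obj C).hom :=
    inferInstanceAs (LocallyOfFiniteType (pullback.snd C.hom x))
  obtain ⟨hC's, hC'cl⟩ := K16.NilRank.smooth_of_isCartanOver c' hc'
  obtain ⟨a₁, ha₁⟩ := Ega1.ReducedSub.exists_factor_of_range_subset c'.left ((Over.pullback x).map c).left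
    hrange.subset
  let a' : C' ⟶ (Over.pullback x).obj C := Over.homMk a₁ (by
    rw [← Over.w ((Over.pullback x).map c), reassoc_of% ha₁]
    exact Over.w c')
  have ha' : a' ≫ (Over.pullback x).map c = c' := by
    ext1
    exact ha₁
  have hsurj : Surjective a'.left := by
    refine ⟨fun y => ?_⟩
    obtain ⟨z, hz⟩ : ((Over.pullback x).map c).left y ∈ Set.range c'.left := by
      have h1 : ((Over.pullback x).map c).left y ∈ Set.range ((Over.pullback x).map c).left := ⟨y, rfl⟩
      exact hrange.symm.subset h1
    refine ⟨z, ((Over.pullback x).map c).left.injective ?_⟩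
    rw [← Scheme.Hom.comp_apply]
    change (a₁ ≫ ((Over.pullback x).map c).left) z = _
    rw [ha₁, hz]
  have hc'2 := hc'
  obtain ⟨hc'1, hc'm, T, _, i, hi, hic⟩ := hc'
  have hi1 := hi.1
  obtain ⟨t, ht⟩ := (hic.2.2 T i).2 (fun X' y τ => by
    rw [← MonObj.mul_comp, ← MonObj.mul_comp, TorsReg.mul_comm_of_isTorus hi.2.2.1])
  have htm : IsMonHom t := by
    have : IsMonHom (t ≫ c') := by rw [ht]; infer_instance
    exact Groth.Agent.Sga3C.SubGrp.isMonHom_of_comp_mono t c'
  have ha'm : IsMonHom a' := by
    have : IsMonHom (a' ≫ (Over.pullback x).map c) := by rw [ha']; infer_instance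
    exact Groth.Agent.Sga3C.SubGrp.isMonHom_of_comp_mono a' ((Over.pullback x).map c)
  have haxo : IsOpenImmersion ((Over.pullback x).map a).left := inferInstance
  obtain ⟨t₀, ht₀⟩ := exists_lift_torus hi.2.2.1 (t ≫ a') ((Over.pullback x).map a)
  have hiso : IsIso a' := NilRed.isIso_of_nilpotent ((Over.pullback x).map c) ((Over.pullback x).map a) hNx i
    hi.2.2.1 c' hic t₀ (by rw [← Category.assoc, ht₀, Category.assoc, ha', ht]) a' ha' hsurj
  have hCx : SGA3x.IsCartanOver (AlgebraicClosure ((Spec (CommRingCat.of R)).residueField s))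
      ((Over.pullback x).map c) := by
    have h1 : IsMonHom (asIso a').hom := ha'm
    have h2 : IsMonHom (Iso.refl (Red.geomFibre s G)).hom := inferInstanceAs (IsMonHom (𝟙 _))
    refine CartBc.isCartanOver_of_iso (asIso a') (Iso.refl _) ?_ hc'2
    rw [Iso.refl_hom, Category.comp_id]
    exact ha'
  have hCxs : Smooth ((Over.pullback x).obj C).hom := (K16.NilRank.smooth_of_isCartanOver _ hCx).1
  -- the points of `Spec R`
  have hpts : ∀ t : ↥(Spec (CommRingCat.of R)), t = s ∨ f (IsLocalRing.closedPoint K) = t := by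
    intro t
    by_cases h0 : t.asIdeal = ⊥
    · right
      apply PrimeSpectrum.ext
      rw [h0]
      change (IsLocalRing.closedPoint K).asIdeal.comap (algebraMap R K) = ⊥
      have h1 : (IsLocalRing.closedPoint K).asIdeal = ⊥ := IsLocalRing.maximalIdeal_eq_bot
      rw [h1, ← RingHom.ker_eq_comap_bot]
      exact (RingHom.injective_iff_ker_eq_bot _).1 (IsFractionRing.injective R K)
    · left
      have h1 : s.asIdeal.IsMaximal := (PrimeSpectrum.isClosed_singleton_iff_isMaximal s).1 hs
      have h2 : t.asIdeal.IsMaximal := Ring.DimensionLEOne.maximalOfPrime h0 t.2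
      apply PrimeSpectrum.ext
      rw [IsLocalRing.eq_maximalIdeal h1, IsLocalRing.eq_maximalIdeal h2]
  have hCs : Smooth C.hom := smooth_two f hpts hCxs hgen.2.2.1
  exact isCartan_two c f σ hpts hCx hgen'

end K19.CartTrait
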