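import Groth.Agent.SGA3x.K19.DSKit
import Groth.Agent.Sga3.H827.ChartK

/-!
# Homomorphisms from a diagonalisable group to a separated group: kernels are locally constant

`Ad h U N` : over the open `U` the kernel of `h : D_S(M) ⟶ G` is the annihilator of the subgroup `N` of `M`.
-/

set_option autoImplicit false
set_option linter.dupNamespace false
universe u
open CategoryTheory MonoidalCategory CartesianMonoidalCategory MonObj GrpObj AlgebraicGeometry Limits

namespace K19.Ad

open Groth.Agent Groth.Agent.Sga3 Groth.Agent.Sga3B Groth.Agent.Sga3B.DSPts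
open Groth.Agent.Sga3.H828.DiagChart Groth.Agent.Sga3.H828.DiagChart.Chart Groth.Agent.Sga3.H827

variable {S : Scheme.{u}} {G : Over S} [GrpObj G] {M : Type} [AddCommGroup M]

/-- over `U` the kernel of `h` is the set of points killed by `N` -/
def Ad (h : Red.DS S M ⟶ G) (U : S.Opens) (N : AddSubgroup M) : Prop :=
  ∀ (X : Over S) (_ : Set.range X.hom ⊆ (U : Set S)) (x : X ⟶ Red.DS S M),
    x ≫ h = 1 ↔ ∀ n ∈ N, dsChar x (Multiplicative.ofAdd n) = 1

lemma Ad.mono {h : Red.DS S M ⟶ G} {U V : S.Opens} {N : AddSubgroup M} (hN : Ad h U N) (hV : V ≤ U) : Ad h V N :=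
  fun X hX x => hN X (hX.trans hV) x

/-- Zariski charts adapted to a homomorphism. -/
theorem exists_adapted {T : Over S} [GrpObj T] (h : T ⟶ G) [IsMonHom h] [AddGroup.FG M] [IsSeparated G.hom]
    [LocallyOfFiniteType G.hom] {C : Type u} [CommRing C] (q : Spec (CommRingCat.of C) ⟶ S) [IsOpenImmersion q]
    (c : Chart T (Over.mk q) M) (y : Spec (CommRingCat.of C)) :
    ∃ (B : Type u) (_ : CommRing B) (ρ : Spec (CommRingCat.of B) ⟶ Spec (CommRingCat.of C)) (N : AddSubgroup M),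
      IsOpenImmersion ρ ∧ y ∈ Set.range ρ ∧
      KerData.Adapted h (c.restrict (Over.homMk ρ rfl : Over.mk (ρ ≫ q) ⟶ Over.mk q)) N := by
  have hyp : y.asIdeal.IsPrime := PrimeSpectrum.isPrime y
  obtain ⟨f, hf, N, hN⟩ := KerChart.exists_local h q c y.asIdeal
  let ρ : Spec (CommRingCat.of (Localization.Away f)) ⟶ Spec (CommRingCat.of C) :=
    Spec.map (CommRingCat.ofHom (algebraMap C (Localization.Away f)))
  have hρ : IsOpenImmersion ρ := inferInstance
  let b : Over.mk (ρ ≫ q) ⟶ Over.mk q := Over.homMk ρ rfl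
  refine ⟨Localization.Away f, inferInstance, ρ, N, hρ, ?_, fun X t x => ?_⟩
  · change y ∈ Set.range (PrimeSpectrum.comap (algebraMap C (Localization.Away f)))
    rw [PrimeSpectrum.localization_away_comap_range (Localization.Away f) f]
    exact hf
  · let Y : Over (Spec (CommRingCat.of C)) := Over.mk (t.left ≫ ρ)
    have hw : t.left ≫ ρ ≫ q = X.hom := Over.w t
    let i : (Over.map q).obj Y ≅ X := Over.isoMk (Iso.refl _) (by
      change 𝟙 _ ≫ X.hom = (t.left ≫ ρ) ≫ q
      rw [Category.id_comp, Category.assoc, hw])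
    have hi : i.hom.left = 𝟙 _ := rfl
    have h1 : x ≫ h = 1 ↔ (i.hom ≫ x) ≫ h = 1 := by
      rw [Category.assoc]
      constructor
      · intro hx
        rw [hx, comp_one]
      · intro hx
        rw [← cancel_epi i.hom, hx, comp_one]
    rw [h1, hN Y (KerData.isUnit_of_away f t.left)]
    refine forall₂_congr fun n _ => ?_
    have h2 : taut q Y = i.hom ≫ t ≫ b := by
      ext1
      rw [Over.comp_left, hi, Category.id_comp]
      rfl
    rw [h2, chr_comp_apply]
    have h3 : i.hom.left.appTop = 𝟙 _ := by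
      rw [hi]
      exact Scheme.Hom.id_appTop
    rw [h3]
    rfl

/-- the tautological chart of `D_S(M)` -/
noncomputable def cht (S : Scheme.{u}) (M : Type) [AddCommGroup M] (B : Over S) : Chart (Red.DS S M) B M where
  chr {T} _ := (dsEquiv T M).symm
  chr_comp g _ h := dsChar_comp g h

lemma exists_lift_of_range {U V : Scheme.{u}} (v : V ⟶ U) [IsOpenImmersion v] {X : Scheme.{u}} (g : X ⟶ U)
    (hg : Set.range g ⊆ Set.range v) : ∃ t : X ⟶ V, t ≫ v = g :=
  ⟨IsOpenImmersion.lift v g hg, IsOpenImmersion.lift_fac v g hg⟩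

/-- **Local constancy of the kernel.** -/
theorem exists_ad (h : Red.DS S M ⟶ G) [IsMonHom h] [AddGroup.FG M] [IsSeparated G.hom]
    [LocallyOfFiniteType G.hom] (s : S) : ∃ U : S.Opens, s ∈ U ∧ ∃ N : AddSubgroup M, Ad h U N := by
  obtain ⟨R, v, hv, ⟨y, hy⟩, -⟩ := BorLoc613.exists_spec_nhd (⊤ : S.Opens) (s := s) trivial
  obtain ⟨B, _, ρ, N, hρ, hyρ, hN⟩ := exists_adapted h (C := R) v (cht S M (Over.mk v)) y
  have hop : IsOpenImmersion (ρ ≫ v) := inferInstance
  refine ⟨(ρ ≫ v).opensRange, ?_, N, fun X hX x => ?_⟩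
  · obtain ⟨z, hz⟩ := hyρ
    exact ⟨z, by rw [Scheme.Hom.comp_apply, hz, hy]⟩
  · obtain ⟨t, ht⟩ := exists_lift_of_range (ρ ≫ v) X.hom hX
    exact hN X (Over.homMk t ht : X ⟶ Over.mk (ρ ≫ v)) x

/-- A test point with an injective character over a non-empty scheme. -/
theorem exists_test (s : S) (M : Type) [AddCommGroup M] :
    ∃ (X : Over S) (χ : Multiplicative M →* Γ(X.left, ⊤)), Function.Injective χ ∧
      Set.range X.hom ⊆ ({s} : Set S) ∧ Nonempty X.left := by
  let E := MonoidAlgebra (S.residueField s) (Multiplicative M)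
  let k : Spec (CommRingCat.of E) ⟶ Spec (S.residueField s) :=
    Spec.map (CommRingCat.ofHom (algebraMap (S.residueField s) E))
  let X : Over S := Over.mk (k ≫ S.fromSpecResidueField s)
  have hE : Nontrivial E := inferInstance
  let g : E →+* Γ(X.left, ⊤) := (Scheme.ΓSpecIso (CommRingCat.of E)).inv.hom
  refine ⟨X, (g : E →* Γ(X.left, ⊤)).comp (MonoidAlgebra.of (S.residueField s) (Multiplicative M)), ?_, ?_, ?_⟩
  · have h1 : Function.Injective (Scheme.ΓSpecIso (CommRingCat.of E)).inv.hom :=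
      (ConcreteCategory.bijective_of_isIso (Scheme.ΓSpecIso (CommRingCat.of E)).inv).1
    have h2 : Function.Injective (MonoidAlgebra.of (S.residueField s) (Multiplicative M)) := MonoidAlgebra.of_injective
    exact h1.comp h2
  · rintro _ ⟨x, rfl⟩
    have h1 : (k ≫ S.fromSpecResidueField s) x ∈ Set.range (S.fromSpecResidueField s) := ⟨k x, by
      rw [Scheme.Hom.comp_apply]⟩
    rwa [Scheme.range_fromSpecResidueField] at h1
  · exact inferInstanceAs (Nonempty (PrimeSpectrum E))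

/-- The subgroup is determined by the kernel. -/
theorem Ad.le {h : Red.DS S M ⟶ G} {U : S.Opens} {N N' : AddSubgroup M} (hN : Ad h U N) (hN' : Ad h U N')
    {s : S} (hs : s ∈ U) : N' ≤ N := by
  obtain ⟨X, χ, hχ, hX, -⟩ := exists_test s (M ⧸ N)
  have hXU : Set.range X.hom ⊆ (U : Set S) := hX.trans (Set.singleton_subset_iff.2 hs)
  let x : X ⟶ Red.DS S M := dsEquiv X M (χ.comp (AddMonoidHom.toMultiplicative (QuotientAddGroup.mk' N)))
  have hx : ∀ m : M, dsChar x (Multiplicative.ofAdd m) = χ (Multiplicative.ofAdd (QuotientAddGroup.mk' N m)) := by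
    intro m
    change dsChar (dsEquiv X M _) _ = _
    rw [dsChar_dsEquiv]
    rfl
  have h1 : x ≫ h = 1 := (hN X hXU x).2 fun n hn => by
    rw [hx]
    have h2 : QuotientAddGroup.mk' N n = 0 := (QuotientAddGroup.eq_zero_iff n).2 hn
    rw [h2]
    exact map_one χ
  intro n hn
  have h2 := (hN' X hXU x).1 h1 n hn
  rw [hx, ← map_one χ] at h2
  have h3 := hχ h2
  exact (QuotientAddGroup.eq_zero_iff n).1 (Multiplicative.ofAdd.injective h3)

theorem Ad.unique {h : Red.DS S M ⟶ G} {U U' : S.Opens} {N N' : AddSubgroup M} (hN : Ad h U N) (hN' : Ad h U' N')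
    {s : S} (hs : s ∈ U) (hs' : s ∈ U') : N = N' :=
  le_antisymm ((hN'.mono (inf_le_right : U ⊓ U' ≤ U')).le (hN.mono inf_le_left) (s := s) ⟨hs, hs'⟩)
    ((hN.mono inf_le_left).le (hN'.mono (inf_le_right : U ⊓ U' ≤ U')) (s := s) ⟨hs, hs'⟩)

/-- Equality of morphisms is Zariski local on the source (through opens of the base). -/
lemma ext_of_cover {X Y : Over S} (a b : X ⟶ Y) (h : ∀ s : S, ∃ U : S.Opens, s ∈ U ∧
    (Over.homMk (X.hom ⁻¹ᵁ U).ι rfl : Over.mk ((X.hom ⁻¹ᵁ U).ι ≫ X.hom) ⟶ X) ≫ a =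
      (Over.homMk (X.hom ⁻¹ᵁ U).ι rfl : Over.mk ((X.hom ⁻¹ᵁ U).ι ≫ X.hom) ⟶ X) ≫ b) : a = b := by
  ext1
  choose U hU hab using h
  let 𝒰 : X.left.OpenCover := X.left.openCoverOfIsOpenCover (fun s : S => X.hom ⁻¹ᵁ (U s)) (by
    rw [TopologicalSpace.IsOpenCover, eq_top_iff]
    intro x _
    simp only [TopologicalSpace.Opens.mem_iSup]
    exact ⟨X.hom x, hU _⟩)
  refine 𝒰.hom_ext _ _ fun s => ?_
  exact congr(($(hab s)).left)

/-- The adapted property is local. -/
theorem ad_top_of_cover {h : Red.DS S M ⟶ G} {N : AddSubgroup M}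
    (H : ∀ s : S, ∃ U : S.Opens, s ∈ U ∧ Ad h U N) : Ad h ⊤ N := by
  intro X _ x
  have hr : ∀ U : S.Opens, Set.range (Over.mk ((X.hom ⁻¹ᵁ U).ι ≫ X.hom)).hom ⊆ (U : Set S) := by
    rintro U _ ⟨y, rfl⟩
    change ((X.hom ⁻¹ᵁ U).ι ≫ X.hom) y ∈ U
    rw [Scheme.Hom.comp_apply]
    exact y.2
  constructor
  · intro hx n hn
    let y : X ⟶ Red.DS S ℤ := x ≫ Red.DSmap S (zmultiplesHom M n : ℤ →+ M)
    have hy : y = 1 := by
      refine ext_of_cover _ _ fun s => ?_
      obtain ⟨U, hU, hA⟩ := H s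
      refine ⟨U, hU, ?_⟩
      have h2 := (hA _ (hr U) ((Over.homMk (X.hom ⁻¹ᵁ U).ι rfl : Over.mk ((X.hom ⁻¹ᵁ U).ι ≫ X.hom) ⟶ X) ≫ x)).1
        (by rw [Category.assoc, hx, comp_one]) n hn
      rw [comp_one]
      apply (dsEquiv _ ℤ).symm.injective
      rw [map_one]
      change dsChar _ = 1
      refine MonoidHom.ext_mint ?_
      change dsChar (_ ≫ x ≫ _) _ = 1
      rw [← Category.assoc, dsChar_DSmap]
      change dsChar _ (Multiplicative.ofAdd ((1 : ℤ) • n)) = 1
      rw [one_smul]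
      exact h2
    have h3 : dsChar y (Multiplicative.ofAdd 1) = 1 := by
      rw [hy]
      have : dsChar (1 : X ⟶ Red.DS S ℤ) = 1 := map_one (dsEquiv X ℤ).symm
      rw [this]
      rfl
    change dsChar (x ≫ _) _ = 1 at h3
    rw [dsChar_DSmap] at h3
    change dsChar _ (Multiplicative.ofAdd ((1 : ℤ) • n)) = 1 at h3
    rwa [one_smul] at h3
  · intro hx
    refine ext_of_cover _ _ fun s => ?_
    obtain ⟨U, hU, hA⟩ := H s
    refine ⟨U, hU, ?_⟩
    rw [comp_one, ← Category.assoc]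
    refine (hA _ (hr U) _).2 fun n hn => ?_
    rw [dsChar_comp, MonoidHom.comp_apply, hx n hn]
    exact map_one _

/-- **Over a connected base the kernel is constant.** -/
theorem exists_ad_top [ConnectedSpace S] (h : Red.DS S M ⟶ G) [IsMonHom h] [AddGroup.FG M] [IsSeparated G.hom]
    [LocallyOfFiniteType G.hom] : ∃ N : AddSubgroup M, Ad h ⊤ N := by
  obtain ⟨s₀⟩ := (inferInstance : Nonempty S)
  obtain ⟨U₀, hs₀, N, hN⟩ := exists_ad h s₀
  refine ⟨N, ad_top_of_cover fun s => ?_⟩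
  let W : Set S := {s | ∃ U : S.Opens, s ∈ U ∧ Ad h U N}
  have hW : IsClopen W := by
    constructor
    · rw [← isOpen_compl_iff, isOpen_iff_forall_mem_open]
      intro s hs
      obtain ⟨U, hsU, N', hN'⟩ := exists_ad h s
      refine ⟨U, fun t ht ⟨V, htV, hV⟩ => ?_, U.2, hsU⟩
      apply hs
      obtain rfl := hN'.unique hV ht htV
      exact ⟨U, hsU, hN'⟩
    · rw [isOpen_iff_forall_mem_open]
      rintro s ⟨U, hsU, hU⟩
      exact ⟨U, fun t ht => ⟨U, ht, hU⟩, U.2, hsU⟩
  have h1 : W = Set.univ := (isClopen_iff.1 hW).resolve_left fun h0 => by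
    have : s₀ ∈ W := ⟨U₀, hs₀, hN⟩
    rw [h0] at this
    exact this
  have h2 : s ∈ W := h1 ▸ trivial
  exact h2

/-- **Factorisation through the quotient `D(N)`.** -/
theorem exists_factor {h : Red.DS S M ⟶ G} [IsMonHom h] {N : AddSubgroup M} (hN : Ad h ⊤ N) :
    ∃ j : Red.DS S N ⟶ G, IsMonHom j ∧ Mono j ∧ Red.DSmap S N.subtype ≫ j = h := by
  have k1 : Flat (Red.DSmap S N.subtype).left := DSFlat.flat_DSmap _ S N.subtype_injective
  have k2 : Surjective (Red.DSmap S N.subtype).left := DSFlat.surjective_DSmap _ S N.subtype_injective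
  have k3 : IsAffineHom (Red.DSmap S N.subtype).left := DSFlat.isAffineHom_DSmap _ S
  have k4 : IsMonHom (Red.DSmap S N.subtype) := KerLoc.isMonHom_DSmap _
  have key : ∀ {X : Over S} (x : X ⟶ Red.DS S M), x ≫ h = 1 ↔ x ≫ Red.DSmap S N.subtype = 1 := by
    intro X x
    rw [hN X (fun _ _ => trivial) x, ← (dsEquiv X N).symm.injective.eq_iff, map_one]
    change _ ↔ dsChar _ = 1
    rw [dsChar_DSmap]
    constructor
    · intro h0
      refine MonoidHom.ext fun n => ?_
      exact h0 (n.toAdd : M) n.toAdd.2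
    · intro h0 n hn
      exact congr($h0 (Multiplicative.ofAdd ⟨n, hn⟩))
  obtain ⟨j, hj⟩ := H784.FlatDesc.exists_desc (Red.DSmap S N.subtype) h
    (UQ.eq_of_ker _ _ fun X x hx => (key x).2 hx)
  have hjm : IsMonHom j := H784.FlatDesc.isMonHom_desc (Red.DSmap S N.subtype) j (by rw [hj]; infer_instance)
  refine ⟨j, hjm, H784.FlatDesc.mono_of_ker j fun X x hx => ?_, hj⟩
  obtain ⟨X', c, y, _, _, _, hc, hy⟩ := H784.FlatDesc.exists_lift_cover (Red.DSmap S N.subtype) x
  rw [← cancel_epi c, comp_one, hy, ← key, ← hj, ← Category.assoc, ← hy, Category.assoc, hx, comp_one]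

end K19.Ad
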