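import Groth.Agent.Sga3.H831.CartFacts
import Groth.Agent.SGA3x.K16.NilRank

/-!
# Cartan subgroups are nilpotent (groups which are not necessarily affine)

* `commute_of_nilpotent`: in a nilpotent group an element of order `n` centralizes the normal subgroups without
  `n`-torsion;
* `isNilpotentGrp_cartan`: over an algebraically closed field, the Cartan subgroups of a smooth connected algebraic
  group are nilpotent.
-/

set_option autoImplicit false
universe u
open CategoryTheory MonoidalCategory CartesianMonoidalCategory MonObj GrpObj AlgebraicGeometry Limits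

namespace K19.CartNil

open Groth.Agent Groth.Agent.Sga3.H831 Groth.Agent.Sga3.H784.Commute
open scoped commutatorElement

section Grp

/-- Group theory: in a nilpotent group `Γ`, an element `x` with `x ^ n = 1` centralizes every normal subgroup
without `n`-torsion. -/
theorem commute_of_nilpotent {Γ : Type*} [Group Γ] (hΓ : Group.IsNilpotent Γ) (V : Subgroup Γ) [V.Normal] {n : ℕ}
    (hV : ∀ v ∈ V, v ^ n = 1 → v = 1) {x : Γ} (hx : x ^ n = 1) {v : Γ} (hv : v ∈ V) : x * v = v * x := by
  let w : ℕ → Γ := fun i => Nat.rec v (fun _ u => ⁅x, u⁆) i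
  have hw0 : w 0 = v := rfl
  have hws : ∀ i, w (i + 1) = ⁅x, w i⁆ := fun i => rfl
  have hwV : ∀ i, w i ∈ V := by
    intro i
    induction i with
    | zero => exact hv
    | succ i ih =>
      rw [hws, commutatorElement_def]
      exact V.mul_mem (‹V.Normal›.conj_mem _ ih x) (V.inv_mem ih)
  have hwl : ∀ i, w i ∈ (⊤ : Subgroup Γ).lowerCentralSeries i := by
    intro i
    induction i with
    | zero => exact Subgroup.mem_top _
    | succ i ih =>
      rw [hws, Subgroup.lowerCentralSeries_succ, ← commutatorElement_inv]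
      exact Subgroup.inv_mem _ (Subgroup.commutator_mem_commutator ih (Subgroup.mem_top x))
  obtain ⟨c, hc⟩ := Subgroup.nilpotent_iff_lowerCentralSeries.1 hΓ
  have hstep : ∀ i, w (i + 2) = 1 → w (i + 1) = 1 := by
    intro i hi
    have h1 : Commute x (w (i + 1)) := by
      have hi' : ⁅x, w (i + 1)⁆ = 1 := (hws (i + 1)).symm.trans hi
      exact commutatorElement_eq_one_iff_commute.1 hi'
    have h2 : x * w i * x⁻¹ = w (i + 1) * w i := by
      rw [hws i, commutatorElement_def]
      group
    have h3 : ∀ m : ℕ, x ^ m * w i * (x ^ m)⁻¹ = w (i + 1) ^ m * w i := by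
      intro m
      induction m with
      | zero => simp
      | succ m ih =>
        have h4 : x * (w (i + 1)) ^ m = (w (i + 1)) ^ m * x := (h1.pow_right m).eq
        calc x ^ (m + 1) * w i * (x ^ (m + 1))⁻¹ = x * (x ^ m * w i * (x ^ m)⁻¹) * x⁻¹ := by
              rw [pow_succ']; group
          _ = x * (w (i + 1) ^ m * w i) * x⁻¹ := by rw [ih]
          _ = w (i + 1) ^ m * (x * w i * x⁻¹) := by rw [← _root_.mul_assoc, h4]; group
          _ = w (i + 1) ^ (m + 1) * w i := by rw [h2, pow_succ, _root_.mul_assoc]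
    have h5 := h3 n
    rw [hx] at h5
    refine hV _ (hwV (i + 1)) ?_
    have h6 : 1 * w i = w (i + 1) ^ n * w i := by rw [← h5]; group
    exact (mul_right_cancel h6).symm
  have hall : ∀ m i, w (i + 1 + m) = 1 → w (i + 1) = 1 := by
    intro m
    induction m with
    | zero => exact fun i h => h
    | succ m ih =>
      intro i h
      refine ih i ?_
      have e1 : i + 1 + (m + 1) = i + m + 2 := by omega
      have e2 : i + 1 + m = i + m + 1 := by omega
      rw [e1] at h
      rw [e2]
      exact hstep (i + m) h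
  have h1 : w 1 = 1 := by
    refine hall c 0 ?_
    have h2 := hwl c
    rw [hc, Subgroup.mem_bot] at h2
    have h3 : ∀ j, w (c + j) = 1 := by
      intro j
      induction j with
      | zero => exact h2
      | succ j ih => rw [← add_assoc, hws, ih, commutatorElement_one_right]
    have h4 := h3 1
    rwa [add_comm c 1] at h4
  exact commutatorElement_eq_one_iff_mul_comm.1 h1

/-- A group which is the product of its centre and the image of a nilpotent group is nilpotent. -/
theorem isNilpotent_of_center {N Γ : Type*} [Group N] [Group Γ] (hN : Group.IsNilpotent N) (ψ : N →* Γ)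
    (h : ∀ g : Γ, ∃ n : N, g * (ψ n)⁻¹ ∈ Subgroup.center Γ) : Group.IsNilpotent Γ := by
  refine Group.of_quotient_center_nilpotent ?_
  refine Group.nilpotent_of_surjective ((QuotientGroup.mk' (Subgroup.center Γ)).comp ψ) ?_
  intro q
  obtain ⟨g, rfl⟩ := QuotientGroup.mk'_surjective _ q
  obtain ⟨n, hn⟩ := h g
  refine ⟨n, ?_⟩
  rw [MonoidHom.comp_apply, QuotientGroup.mk'_apply, QuotientGroup.mk'_apply, QuotientGroup.eq]
  have h1 := (Subgroup.center Γ).inv_mem hn
  have h2 : (ψ n)⁻¹ * g = g * (ψ n)⁻¹ := by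
    have h3 := Subgroup.mem_center_iff.1 hn (ψ n)
    have h4 : ψ n * (g * (ψ n)⁻¹) = g := by rw [h3]; group
    calc (ψ n)⁻¹ * g = (ψ n)⁻¹ * (ψ n * (g * (ψ n)⁻¹)) := by rw [h4]
      _ = g * (ψ n)⁻¹ := by group
  rw [h2]
  exact hn

end Grp

variable {K : Type u} [Field K] [IsAlgClosed K] {G C : Over (Spec (CommRingCat.of K))} [GrpObj G] [GrpObj C]

/-- **Cartan subgroups of smooth connected algebraic groups are nilpotent.** -/
theorem isNilpotentGrp_cartan [Smooth G.hom] [QuasiCompact G.hom] [ConnectedSpace G.left] (c : C ⟶ G)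
    (hc : SGA3x.IsCartanOver K c) : AGF.IsNilpotentGrp C := by
  have hGsep : IsSeparated G.hom := Groth.Agent.Localalg.GrpSchComp2.isSeparated_hom G
  have hCsep : IsSeparated C.hom := Groth.Agent.Localalg.GrpSchComp2.isSeparated_hom C
  have hCsm : Smooth C.hom := (K16.NilRank.smooth_of_isCartanOver c hc).1
  obtain ⟨L, _, l, A, _, q, h1, h2, h3, h4, h5, h6, h7, h8, h9, h10, h11, h12, h13⟩ :=
    Sga3.H794.ChevClosed.exists_chevalley K G
  obtain ⟨hc1, hc2, T, _, i, hi, hic⟩ := hc
  have hi1 := hi.1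
  have hi2 := hi.2.1
  have hlm : Mono l := Books.AlgPtsGrp.mono_of_isClosedImmersion l
  obtain ⟨τ, hτ⟩ := CartConn.exists_factor i hi.2.2.1 l q h10
  have hτmax : Red.IsMaximalTorus τ := CartTors.isMaximalTorus_of_comp l τ (by rw [hτ]; exact hi)
  have hτ1 := hτmax.1
  have hτ2 := hτmax.2.1
  obtain ⟨N, _, m, hm, hm1, hm2, hm3⟩ := Sga3.H798.CentSep.exists_smooth_centralizer τ hi.2.2.1
  have hmm := hm.1
  have hNnil : AGF.IsNilpotentGrp N :=
    Agf.H591.Cartan.isNilpotentGrp_centralizer τ ((Sga3B.RG.BrMax.isMaximalTorus_iff_abs τ).1 hτmax) hm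
  obtain ⟨b, hb⟩ := (hic.2.2 N (m ≫ l)).2 (fun X' x t => by
    have h := (hm.2.2 _ (x ≫ m)).1 ⟨x, rfl⟩ _ (𝟙 _) t
    rw [Category.id_comp] at h
    have h' := congrArg (fun z => z ≫ l) h
    simp only [MonObj.mul_comp, Category.assoc, hτ] at h'
    exact h')
  have hbm : IsMonHom b := by
    have : IsMonHom (b ≫ c) := by rw [hb]; infer_instance
    exact Groth.Agent.Sga3C.SubGrp.isMonHom_of_comp_mono b c
  refine Agf.H611.NilPts.isNilpotentGrp_of_points C ?_
  refine isNilpotent_of_center (Agf.H611.NilPts.isNilpotent_points hNnil (𝟙_ _)) (ptHom _ b) fun g => ?_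
  obtain ⟨z, w, y, hg, hw, hz⟩ := CartConn.exists_mul_mem hic l q h10 g
  obtain ⟨n, hn⟩ := (hm.2.2 _ y).2 (fun X' x t => by
    rw [← cancel_mono l, MonObj.mul_comp, MonObj.mul_comp, Category.assoc, Category.assoc, hτ, ← hw]
    exact (hic.2.2 _ (w ≫ c)).1 ⟨w, rfl⟩ X' x t)
  have hnb : n ≫ b = w := by
    rw [← cancel_mono c, Category.assoc, hb, ← Category.assoc, hn, hw]
  refine ⟨n, ?_⟩
  have h20 : (ptHom (𝟙_ (Over (Spec (CommRingCat.of K)))) b) n = w := hnb
  rw [h20, Subgroup.mem_center_iff]
  intro x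
  have h21 : (g * w⁻¹) ≫ c = z := by
    rw [MonObj.mul_comp, GrpObj.inv_comp, hg, mul_inv_cancel_right]
  rw [← cancel_mono c, MonObj.mul_comp, MonObj.mul_comp _ x, h21]
  have h22 := hz _ (x ≫ c)
  have h23 : toUnit (𝟙_ (Over (Spec (CommRingCat.of K)))) = 𝟙 _ := toUnit_unique _ _
  rw [h23, Category.id_comp] at h22
  exact h22.symm

end K19.CartNil
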